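/-
An automorphism of `S` transporting the maps of a fusion system, the orders of automizers of centric
subgroups, and invariance of the Thompson subgroup (owner: helper90).

Main results: `Transports`, `transports_of_isMorphism`, `resAut`, `exists_conj_aut`,
`not_dvd_card_autGroup`, `thompson_mem`, `thompson_centric`.
-/
import Cfsg.Agent.Lib.Fusion.Quotient
import Cfsg.Agent.Lib.Fusion.Centric
import Cfsg.Agent.Lib.Fusion.ThompsonCrit
import Cfsg.Agent.Lib.FusionChain.Radical
import Cfsg.Prelude.Def_FusionComponents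
import Mathlib.GroupTheory.Perm.Cycle.Type

set_option autoImplicit false
set_option linter.unusedSectionVars false

namespace Cfsg.Agent.FpfAutomizer

open Cfsg Cfsg.FusionSystem Cfsg.Agent.Fusion

universe u

variable {Ω : Type u} [Group Ω] {S : Subgroup Ω}

/-- `α` carries every map of the system to a map of the system. -/
def Transports (F : FusionSystem S) (α : MulAut S) : Prop :=
  ∀ P f, IsMap F P f →
    ∃ g, IsMap F (img (autFn α) P) g ∧ ∀ x ∈ P, g (autFn α x) = autFn α (f x)

theorem autFn_one {x : Ω} {R : Subgroup Ω} (hx : x ∈ R) : autFn (1 : MulAut R) x = x := by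
  rw [autFn_apply _ hx]; rfl

theorem autFn_comp {R : Subgroup Ω} (α β : MulAut R) {x : Ω} (hx : x ∈ R) :
    autFn (α * β) x = autFn α (autFn β x) := by
  rw [autFn_apply _ hx, autFn_apply _ (autFn_mem β hx), MulAut.mul_apply]
  exact congrArg (fun y : R => ((α y : R) : Ω)) (Subtype.ext (autFn_apply β hx).symm)

theorem autFn_map_mul {R : Subgroup Ω} (α : MulAut R) {x y : Ω} (hx : x ∈ R) (hy : y ∈ R) :
    autFn α (x * y) = autFn α x * autFn α y := by
  rw [autFn_apply α hx, autFn_apply α hy, autFn_apply α (R.mul_mem hx hy),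
    show (⟨x * y, R.mul_mem hx hy⟩ : R) = ⟨x, hx⟩ * ⟨y, hy⟩ from rfl, map_mul]
  rfl

theorem autFn_map_inv {R : Subgroup Ω} (α : MulAut R) {x : Ω} (hx : x ∈ R) :
    autFn α x⁻¹ = (autFn α x)⁻¹ := by
  rw [autFn_apply α hx, autFn_apply α (R.inv_mem hx),
    show (⟨x⁻¹, R.inv_mem hx⟩ : R) = (⟨x, hx⟩ : R)⁻¹ from rfl, map_inv]
  rfl

theorem autFn_injOn {R : Subgroup Ω} (α : MulAut R) {x y : Ω} (hx : x ∈ R) (hy : y ∈ R)
    (e : autFn α x = autFn α y) : x = y := by
  rw [autFn_apply α hx, autFn_apply α hy] at e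
  exact congrArg Subtype.val (α.injective (Subtype.ext e))

theorem transports_of_isMorphism (F : FusionSystem S) (α : MulAut S)
    (hmor : F.IsMorphism F (S.subtype.comp α.toMonoidHom)) : Transports F α := by
  intro P f hf
  obtain ⟨φ, hφ, e⟩ := hf
  obtain ⟨φ', hφ', hP, hφS, hP', h⟩ := hmor.2 P φ hφ
  have hle : img (autFn α) P ≤ imageAlong (S.subtype.comp α.toMonoidHom) P := by
    rw [img, Subgroup.closure_le]
    rintro _ ⟨x, hx, rfl⟩
    rw [autFn_apply α (hP hx)]
    exact hP' ⟨x, hx⟩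
  refine ⟨toFn φ', (isMap_toFn hφ').mono hle, fun x hx => ?_⟩
  have h1 := h ⟨x, hx⟩
  rw [autFn_apply α (hP hx)]
  show toFn φ' ((S.subtype.comp α.toMonoidHom) ⟨x, hP hx⟩) = _
  rw [toFn_apply φ' (hP' ⟨x, hx⟩), h1, ← e x hx, autFn_apply α (hφS ⟨x, hx⟩)]
  rfl

/-- The restriction of `α` to an invariant subgroup. -/
noncomputable def resAut [Finite S] (α : MulAut S) {R : Subgroup Ω} (hR : R ≤ S)
    (h : ∀ x ∈ R, autFn α x ∈ R) : MulAut R :=
  have := finite_of_le hR
  MulEquiv.ofBijective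
    (MonoidHom.mk' (fun x : R => (⟨autFn α x, h x x.2⟩ : R))
      fun a b => Subtype.ext (autFn_map_mul α (hR a.2) (hR b.2)))
    (Finite.injective_iff_bijective.1 fun a b e =>
      Subtype.ext (autFn_injOn α (hR a.2) (hR b.2) (congrArg Subtype.val e)))

theorem resAut_apply [Finite S] (α : MulAut S) {R : Subgroup Ω} (hR : R ≤ S)
    (h : ∀ x ∈ R, autFn α x ∈ R) (x : R) : ((resAut α hR h x : R) : Ω) = autFn α x := rfl

theorem resAut_pow [Finite S] (α : MulAut S) {R : Subgroup Ω} (hR : R ≤ S)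
    (h : ∀ x ∈ R, autFn α x ∈ R) (n : ℕ) (x : R) :
    (((resAut α hR h) ^ n) x : R).1 = autFn (α ^ n) x := by
  induction n with
  | zero => rw [pow_zero, pow_zero, MulAut.one_apply, autFn_one (hR x.2)]
  | succ n ih =>
    rw [pow_succ', pow_succ', MulAut.mul_apply, resAut_apply, ih, autFn_comp α _ (hR x.2)]

/-- A transporting automorphism normalizes the automizer of an invariant subgroup. -/
theorem exists_conj_aut [Finite S] {F : FusionSystem S} {α : MulAut S} (hα : Transports F α)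
    {R : Subgroup Ω} (hR : R ≤ S) (h : ∀ x ∈ R, autFn α x ∈ R) {β : MulAut R}
    (hβ : β ∈ F.autGroup R) : resAut α hR h * β * (resAut α hR h)⁻¹ ∈ F.autGroup R := by
  have := finite_of_le hR
  obtain ⟨g, hg, hge⟩ := hα R _ (isIso_autFn hR hβ).1
  have hle : R ≤ img (autFn α) R := fun y hy => by
    obtain ⟨x, hx⟩ := (resAut α hR h).surjective ⟨y, hy⟩
    exact Subgroup.subset_closure ⟨x, x.2, congrArg Subtype.val hx⟩
  refine (mem_autGroup_iff hR).2 ((hg.mono hle).congr fun y hy => ?_)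
  obtain ⟨x, hx⟩ := (resAut α hR h).surjective ⟨y, hy⟩
  have e : autFn α x = y := congrArg Subtype.val hx
  rw [autFn_apply _ hy, ← hx, MulAut.mul_apply, MulAut.mul_apply, MulAut.inv_apply_self,
    resAut_apply, ← e, hge x x.2, autFn_apply β x.2]

/-- A restriction has order dividing the order of the extension. -/
theorem orderOf_dvd_of_restrict {R M : Subgroup Ω} (hRM : R ≤ M) {γ : MulAut R} {δ : MulAut M}
    (h : ∀ x ∈ R, autFn δ x = autFn γ x) : orderOf γ ∣ orderOf δ := by
  have key : ∀ n : ℕ, ∀ x ∈ R, autFn (δ ^ n) x = autFn (γ ^ n) x := by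
    intro n
    induction n with
    | zero => intro x hx; rw [pow_zero, pow_zero, autFn_one (hRM hx), autFn_one hx]
    | succ n ih =>
      intro x hx
      rw [pow_succ', pow_succ', autFn_comp δ _ (hRM hx), autFn_comp γ _ hx, ih x hx,
        h _ (autFn_mem _ hx)]
  refine orderOf_dvd_of_pow_eq_one (MulEquiv.ext fun x => Subtype.ext ?_)
  have h1 := key (orderOf δ) x x.2
  rw [pow_orderOf_eq_one, autFn_one (hRM x.2), autFn_apply _ x.2] at h1
  exact h1.symm

variable [Finite S] {F : FusionSystem S} {p : ℕ} [Fact p.Prime]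

theorem centric_of_isConj {P Q : Subgroup Ω} (hc : F.IsCentric P) (h : F.IsConj P Q) :
    F.IsCentric Q :=
  ⟨(isConj_le h).2, fun R hR => hc.2 R (isConj_trans h hR)⟩

theorem centric_top : F.IsCentric S := by
  refine ⟨le_rfl, fun Q hQ => ?_⟩
  obtain ⟨f, hf⟩ := isConj_iff.1 hQ
  rw [eq_of_le_of_card le_rfl hf.le_right hf.card_eq.ge]
  exact inf_le_left

/-- If `r` divides no automizer of a centric radical subgroup, it divides no automizer of a centric
subgroup. -/
theorem not_dvd_card_autGroup (hS : IsPGroup p S) (hF : F.IsSaturated p) {r : ℕ} (hr : r.Prime)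
    (hcr : ∀ R : Subgroup Ω, F.IsCentric R → F.IsRadical p R → ¬ r ∣ Nat.card (F.autGroup R))
    {P : Subgroup Ω} (hP : F.IsCentric P) : ¬ r ∣ Nat.card (F.autGroup P) := by
  suffices ∀ d (P : Subgroup Ω), F.IsCentric P → Nat.card S ≤ Nat.card P + d →
      ¬ r ∣ Nat.card (F.autGroup P) from this _ P hP (Nat.le_add_left _ _)
  intro d
  induction d using Nat.strong_induction_on with
  | _ d ih =>
  intro P hP hd hdiv
  have := Fact.mk hr
  obtain ⟨Q, hPQ, hQn⟩ := exists_fullyNormalized F hP.1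
  obtain ⟨f, hf⟩ := isConj_iff.1 hPQ
  have hQc := centric_of_isConj hP hPQ
  have hcard : Nat.card (F.autGroup Q) = Nat.card (F.autGroup P) := by
    rw [← map_autGroup hf]
    exact Subgroup.card_map_of_injective (MulAut.congr hf.equiv).injective
  by_cases hrad : F.IsRadical p Q
  · exact hcr Q hQc hrad (hcard ▸ hdiv)
  have := finite_mulAut hQc.1
  obtain ⟨⟨γ, hγ⟩, hγr⟩ := exists_prime_orderOf_dvd_card' (G := F.autGroup Q) r (hcard ▸ hdiv)
  rw [Subgroup.orderOf_mk] at hγr
  have hA := fullyAutomized_of_fullyNormalized hS hF hQn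
  have hR := receptive_of_fullyNormalized hS hF hQn
  obtain ⟨g, hg, hgγ, hgM⟩ := FusionChain.exists_extension_NK hR hγ (FusionChain.pCoreAut F p Q)
    fun k hk => ⟨FusionChain.pCoreAut_le_autInducedBy hA (FusionChain.conj_mem_pCoreAut hγ hk.2),
      FusionChain.conj_mem_pCoreAut hγ hk.2⟩
  set M := NK S Q (FusionChain.pCoreAut F p Q) with hM
  have hlt : Q < M := FusionChain.lt_NK_pCoreAut hS hA hrad
  have hg' : IsMap F M g := hg.mono le_sup_right
  have hiso : IsIso F M M g := ⟨hg', eq_of_le_of_card (NK_le _ _ _) (hg'.img_le le_rfl hgM)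
    (hg'.card_img le_rfl).ge⟩
  obtain ⟨δ, hδ, hδe⟩ := exists_aut_of_isIso hiso
  have hdvd : r ∣ orderOf δ := hγr ▸ orderOf_dvd_of_restrict hlt.le fun x hx => by
    rw [autFn_apply δ (hlt.le hx), hδe, hgγ x hx]
  have hMS : M ≤ S := NK_le _ _ _
  have hcM := centric_mono hQc hlt.le hMS
  have := finite_mulAut hMS
  have hdM : r ∣ Nat.card (F.autGroup M) := hdvd.trans (by
    have := orderOf_dvd_natCard (⟨δ, hδ⟩ : F.autGroup M)
    rwa [Subgroup.orderOf_mk] at this)
  have hlt' : Nat.card P < Nat.card M := by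
    rw [← hf.card_eq]
    refine lt_of_le_of_ne (have := finite_of_le hMS; Subgroup.card_le_of_le hlt.le) fun he => hlt.ne ?_
    exact eq_of_le_of_card hMS hlt.le he.ge
  have hMle : Nat.card M ≤ Nat.card S := Subgroup.card_le_of_le hMS
  exact ih (Nat.card S - Nat.card M) (by omega) M hcM (by omega) hdM

/-- The Thompson subgroup is invariant under automorphisms of `S`. -/
theorem thompson_mem (α : MulAut S) {x : Ω} (hx : x ∈ thompsonSubgroupAOf S) :
    autFn α x ∈ thompsonSubgroupAOf S := by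
  have hmap : (thompsonSubgroupAOf (⊤ : Subgroup S)).map S.subtype = thompsonSubgroupAOf S := by
    rw [PLocal.map_thompsonSubgroupAOf _ S.subtype_injective.injOn, ← MonoidHom.range_eq_map,
      S.range_subtype]
  rw [← hmap] at hx ⊢
  obtain ⟨y, hy, rfl⟩ := hx
  refine ⟨α y, ?_, (autFn_apply α y.2).symm⟩
  have h := PLocal.map_thompsonSubgroupAOf α.toMonoidHom (H := (⊤ : Subgroup S)) α.injective.injOn
  rw [Subgroup.map_top_of_surjective _ α.surjective] at h
  rw [← h]
  exact ⟨y, hy, rfl⟩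

/-- Maps of the system on the Thompson subgroup carry it into itself. -/
theorem thompson_mapsTo {f : Ω → Ω} (hf : IsMap F (thompsonSubgroupAOf S) f) {x : Ω}
    (hx : x ∈ thompsonSubgroupAOf S) : f x ∈ thompsonSubgroupAOf S := by
  obtain ⟨φ, hφ, he⟩ := id hf
  have hle : thompsonSubgroupAOf S ≤
      ((thompsonSubgroupAOf S).comap φ).map (thompsonSubgroupAOf S).subtype := by
    conv_lhs => rw [PLocal.thompsonSubgroupAOf_eq]
    refine sSup_le fun A hA => ?_
    have hAJ : A ≤ thompsonSubgroupAOf S := by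
      rw [PLocal.thompsonSubgroupAOf_eq]
      exact le_sSup hA
    have hB : img f A ∈ PLocal.maxIn PLocal.abelian S := by
      refine ⟨(hf.mono hAJ).img_le_S, ?_, fun B hB hQB => ?_⟩
      · refine Subgroup.le_centralizer_iff_isMulCommutative.1 fun u hu v hv => ?_
        obtain ⟨a, ha, rfl⟩ := (hf.mem_img_iff hAJ).1 hu
        obtain ⟨b, hb, rfl⟩ := (hf.mem_img_iff hAJ).1 hv
        rw [← hf.map_mul (hAJ hb) (hAJ ha), ← hf.map_mul (hAJ ha) (hAJ hb)]
        exact congrArg f
          (Subgroup.mem_centralizer_iff.1 (Subgroup.le_centralizer_iff_isMulCommutative.2 hA.2.1 ha) b hb)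
      · rw [hf.card_img hAJ]
        exact hA.2.2 B hB hQB
    intro a ha
    refine ⟨⟨a, hAJ ha⟩, ?_, rfl⟩
    show φ _ ∈ thompsonSubgroupAOf S
    rw [he, PLocal.thompsonSubgroupAOf_eq]
    exact le_sSup hB (hf.mem_img ha)
  obtain ⟨⟨y, hy⟩, hy', rfl⟩ := hle hx
  have h1 : φ ⟨y, hy⟩ ∈ thompsonSubgroupAOf S := hy'
  rw [he] at h1
  exact h1

theorem thompson_centric : F.IsCentric (thompsonSubgroupAOf S) := by
  refine ⟨PLocal.thompsonSubgroupAOf_le S, fun Q hQ => ?_⟩
  obtain ⟨f, hf⟩ := isConj_iff.1 hQ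
  have hle : Q ≤ thompsonSubgroupAOf S := hf.2 ▸ hf.1.img_le le_rfl fun x hx => thompson_mapsTo hf.1 hx
  rw [eq_of_le_of_card (PLocal.thompsonSubgroupAOf_le S) hle hf.card_eq.ge]
  exact centralizerIn_thompsonA_le

end Cfsg.Agent.FpfAutomizer
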