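/-
Commuting involutions normalized by a fixed-point-free element, and the consequences of the
Hall-Higman-Shult theorem used for fixed-point-free automorphisms (owner: helper90).

Main results: `exists_fixed`, `eq_zero_of_sum`, `exists_eigvec`, `commute_of_invol`, `Special`,
`special_of_isSpecial`.
-/
import Cfsg.Agent.EqLemmas
import Cfsg.Agent.Lib.PGroup.Basic
import Cfsg.Prelude.Def_Transfer
import Mathlib.GroupTheory.Perm.Cycle.Type
import Mathlib.LinearAlgebra.FiniteDimensional.Lemmas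
import Mathlib.FieldTheory.Finiteness

set_option autoImplicit false
set_option linter.unusedSectionVars false

namespace Cfsg.Agent.FpfAutomizer

/-- A map whose `r`-th iterate is trivial fixes a point of a set of size prime to `r`. -/
theorem exists_fixed {α : Type*} [Finite α] {r : ℕ} (hr : r.Prime) (h : ¬ r ∣ Nat.card α)
    (f : α → α) (hf : f^[r] = id) : ∃ x, f x = x := by
  classical
  have : Fintype α := Fintype.ofFinite α
  have := Fact.mk hr
  obtain ⟨n, hn⟩ := Nat.exists_eq_succ_of_ne_zero hr.ne_zero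
  have hinj : Function.Injective f := fun a b hab => by
    have h1 : f^[r] a = f^[r] b := by rw [hn, Function.iterate_succ_apply, Function.iterate_succ_apply, hab]
    rwa [hf] at h1
  let σ : Equiv.Perm α := Equiv.ofBijective f (Finite.injective_iff_bijective.1 hinj)
  have hσ : σ ^ r ^ 1 = 1 := by
    rw [pow_one]
    ext x
    rw [Equiv.Perm.coe_pow]
    show f^[r] x = x
    rw [hf, id]
  exact Equiv.Perm.exists_fixed_point_of_prime (Nat.card_eq_fintype_card (α := α) ▸ h) hσ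

/-- Eigenvectors of a family of maps with pairwise different eigenvalue systems add up to zero only
if each is zero. -/
theorem eq_zero_of_sum {K M H ι : Type*} [Field K] [AddCommGroup M] [Module K M]
    (L : H → Module.End K M) (c : ι → H → K) :
    ∀ (s : Finset ι) (u : ι → M), (∀ i ∈ s, ∀ h, L h (u i) = c i h • u i) →
      (∀ i ∈ s, ∀ j ∈ s, i ≠ j → ∃ h, c i h ≠ c j h) → ∑ i ∈ s, u i = 0 → ∀ i ∈ s, u i = 0 := by
  classical
  intro s
  induction s using Finset.induction with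
  | empty => simp
  | insert j s hj ih =>
    intro u heig hdist hsum
    have hzero : ∀ i ∈ s, u i = 0 := by
      intro i hi
      have hij : i ≠ j := fun e => hj (e ▸ hi)
      obtain ⟨h, hh⟩ := hdist i (Finset.mem_insert_of_mem hi) j (Finset.mem_insert_self j s) hij
      have hall := ih (fun l => (c l h - c j h) • u l)
        (fun l hl g => by
          rw [map_smul, heig l (Finset.mem_insert_of_mem hl), smul_comm])
        (fun l hl l' hl' => hdist l (Finset.mem_insert_of_mem hl) l' (Finset.mem_insert_of_mem hl'))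
        (by
          have h1 := congrArg (fun m => L h m - c j h • m) hsum
          simp only [map_zero, smul_zero, sub_zero, map_sum, Finset.smul_sum,
            ← Finset.sum_sub_distrib] at h1
          rw [Finset.sum_congr rfl (fun l hl => show L h (u l) - c j h • u l = (c l h - c j h) • u l
            by rw [heig l hl, sub_smul]), Finset.sum_insert hj, sub_self, zero_smul, zero_add] at h1
          exact h1) i hi
      exact (smul_eq_zero.1 hall).resolve_left (sub_ne_zero.2 hh)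
    intro i hi
    rcases Finset.mem_insert.1 hi with rfl | hi'
    · rw [Finset.sum_insert hj, Finset.sum_eq_zero hzero, add_zero] at hsum
      exact hsum
    · exact hzero i hi'

variable {p : ℕ} [Fact p.Prime] {V : Type*} [AddCommGroup V] [Module (ZMod p) V] [Finite V]
  {Γ : Type*} [Group Γ] (ρ : Γ →* Module.End (ZMod p) V)

theorem rho_mul (g h : Γ) (v : V) : ρ (g * h) v = ρ g (ρ h v) := by
  rw [map_mul]; rfl

theorem rho_one (v : V) : ρ 1 v = v := by
  rw [map_one]; rfl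

theorem rho_inv_apply (g : Γ) (v : V) : ρ g⁻¹ (ρ g v) = v := by
  rw [← rho_mul ρ, inv_mul_cancel, rho_one ρ]

theorem rho_apply_inv (g : Γ) (v : V) : ρ g (ρ g⁻¹ v) = v := by
  rw [← rho_mul ρ, mul_inv_cancel, rho_one ρ]

theorem rho_inj (g : Γ) : Function.Injective (ρ g) :=
  Function.LeftInverse.injective (rho_inv_apply ρ g)

theorem eq_of_rho (hρ : Function.Injective ρ) {g h : Γ} (e : ∀ v, ρ g v = ρ h v) : g = h :=
  hρ (LinearMap.ext e)

theorem exists_ne_of_ne_one (hρ : Function.Injective ρ) {g : Γ} (hg : g ≠ 1) : ∃ v, ρ g v ≠ v := by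
  by_contra h
  push Not at h
  exact hg (eq_of_rho ρ hρ fun v => by rw [h v, rho_one ρ])

theorem eq_zero_of_neg_eq (hp : p ≠ 2) {v : V} (h : -v = v) : v = 0 := by
  have h2 : (2 : ZMod p) • v = 0 := by
    rw [two_smul]
    exact neg_eq_iff_add_eq_zero.1 h
  refine (smul_eq_zero.1 h2).resolve_left fun h0 => hp ?_
  exact (Nat.prime_dvd_prime_iff_eq Fact.out Nat.prime_two).1
    ((ZMod.natCast_eq_zero_iff 2 p).1 (by exact_mod_cast h0) : p ∣ 2)

/-- Commuting involutions have a common eigenvector in every invariant nonzero subspace. -/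
theorem exists_eigvec (B : Set Γ) (W₀ : Submodule (ZMod p) V) (hW₀ : W₀ ≠ ⊥)
    (hinv : ∀ z ∈ B, ∀ w ∈ W₀, ρ z w ∈ W₀)
    (hsq : ∀ z ∈ B, ∀ w ∈ W₀, ρ z (ρ z w) = w)
    (hcomm : ∀ z ∈ B, ∀ z' ∈ B, ∀ w ∈ W₀, ρ z (ρ z' w) = ρ z' (ρ z w)) :
    ∃ v ∈ W₀, v ≠ 0 ∧ ∀ z ∈ B, ρ z v = v ∨ ρ z v = -v := by
  obtain ⟨W, hWle, hWmin⟩ := Finite.exists_le_minimal (α := Submodule (ZMod p) V)
    (p := fun W => W ≠ ⊥ ∧ W ≤ W₀ ∧ ∀ z ∈ B, ∀ w ∈ W, ρ z w ∈ W) (a := W₀) ⟨hW₀, le_rfl, hinv⟩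
  obtain ⟨hne, hle, hWinv⟩ := hWmin.prop
  obtain ⟨v, hv, hv0⟩ := Submodule.exists_mem_ne_zero_of_ne_bot hne
  refine ⟨v, hle hv, hv0, fun z hz => ?_⟩
  by_contra hcon
  push Not at hcon
  let U : Submodule (ZMod p) V := W ⊓ LinearMap.ker (ρ z - 1)
  have hU : U ≠ ⊥ := by
    intro h
    have hm : ρ z v + v ∈ U := by
      refine ⟨W.add_mem (hWinv z hz v hv) hv, ?_⟩
      show ρ z (ρ z v + v) - (ρ z v + v) = 0
      rw [map_add, hsq z hz v (hle hv)]
      abel
    rw [h, Submodule.mem_bot] at hm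
    exact hcon.2 (eq_neg_of_add_eq_zero_left hm)
  have hUinv : ∀ z' ∈ B, ∀ w ∈ U, ρ z' w ∈ U := by
    intro z' hz' w hw
    refine ⟨hWinv z' hz' w hw.1, ?_⟩
    show ρ z (ρ z' w) - ρ z' w = 0
    have h1 : ρ z w - w = 0 := hw.2
    rw [hcomm z hz z' hz' w (hle hw.1), sub_eq_zero.1 h1, sub_self]
  have hWU : W ≤ U := hWmin.2 ⟨hU, inf_le_left.trans hle, hUinv⟩ inf_le_left
  have h1 : ρ z v - v = 0 := (hWU hv).2
  exact hcon.1 (sub_eq_zero.1 h1)

/-- Commuting involutions on an invariant subspace, permuted by an element of odd prime order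
without fixed points, commute with it there. -/
theorem commute_of_invol (hp : p ≠ 2) {a : Γ} {r : ℕ} (hr : r.Prime) (har : a ^ r = 1)
    (hfix : ∀ v, ρ a v = v → v = 0) (B : Set Γ) (W : Submodule (ZMod p) V)
    (hB : ∀ z ∈ B, a * z * a⁻¹ ∈ B)
    (hinv : ∀ z ∈ B, ∀ w ∈ W, ρ z w ∈ W) (hsq : ∀ z ∈ B, ∀ w ∈ W, ρ z (ρ z w) = w)
    (hcomm : ∀ z ∈ B, ∀ z' ∈ B, ∀ w ∈ W, ρ z (ρ z' w) = ρ z' (ρ z w)) :
    ∀ z ∈ B, ∀ w ∈ W, ρ (a * z * a⁻¹) w = ρ z w := by
  classical
  intro z hz w₀ hw₀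
  by_contra hne
  set z' := a * z * a⁻¹ with hz'
  have hz'B : z' ∈ B := hB z hz
  -- the subspace where `z'` and `z` differ
  let W₁ : Submodule (ZMod p) V := W ⊓ LinearMap.ker (ρ z' * ρ z + 1)
  have hW₁ : W₁ ≠ ⊥ := by
    intro h
    have hm : ρ z' (ρ z w₀) - w₀ ∈ W₁ := by
      refine ⟨W.sub_mem (hinv _ hz'B _ (hinv _ hz _ hw₀)) hw₀, ?_⟩
      show ρ z' (ρ z (ρ z' (ρ z w₀) - w₀)) + (ρ z' (ρ z w₀) - w₀) = 0
      rw [map_sub, map_sub, hcomm z hz z' hz'B _ (hinv _ hz _ hw₀), hsq z' hz'B _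
        (hinv _ hz _ (hinv _ hz _ hw₀)), hsq z hz _ hw₀]
      abel
    rw [h, Submodule.mem_bot, sub_eq_zero] at hm
    have h1 := congrArg (ρ z') hm
    rw [hsq z' hz'B _ (hinv _ hz _ hw₀)] at h1
    exact hne h1.symm
  have hW₁inv : ∀ g ∈ B, ∀ w ∈ W₁, ρ g w ∈ W₁ := by
    intro g hg w hw
    refine ⟨hinv g hg w hw.1, ?_⟩
    show ρ z' (ρ z (ρ g w)) + ρ g w = 0
    have h1 : ρ z' (ρ z w) + w = 0 := hw.2
    rw [hcomm z hz g hg w hw.1, hcomm z' hz'B g hg _ (hinv z hz w hw.1),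
      eq_neg_of_add_eq_zero_left h1, map_neg]
    abel
  obtain ⟨v, hv, hv0, hveig⟩ := exists_eigvec ρ B W₁ hW₁ hW₁inv
    (fun g hg w hw => hsq g hg w hw.1) (fun g hg g' hg' w hw => hcomm g hg g' hg' w hw.1)
  have hvv : ρ z' (ρ z v) + v = 0 := hv.2
  let c : Γ → ZMod p := fun g => if ρ g v = v then 1 else -1
  have hc : ∀ g ∈ B, ρ g v = c g • v := by
    intro g hg
    by_cases h : ρ g v = v
    · simp [c, h]
    · simp [c, (hveig g hg).resolve_left h, neg_smul]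
  have haB : ∀ n : ℕ, ∀ g ∈ B, a ^ n * g * (a ^ n)⁻¹ ∈ B := by
    intro n
    induction n with
    | zero => simp
    | succ n ih =>
      intro g hg
      have := hB _ (ih g hg)
      rwa [pow_succ', mul_inv_rev, show a * a ^ n * g * ((a ^ n)⁻¹ * a⁻¹) =
        a * (a ^ n * g * (a ^ n)⁻¹) * a⁻¹ by group]
  -- the set of exponents fixing the sign system
  let P : ℕ → Prop := fun n => ∀ g ∈ B, c (a ^ n * g * (a ^ n)⁻¹) = c g
  have hPadd : ∀ m n, P m → P n → P (m + n) := by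
    intro m n hm hn g hg
    have := hm _ (haB n g hg)
    rw [hn g hg] at this
    rwa [pow_add, mul_inv_rev, show a ^ m * a ^ n * g * ((a ^ n)⁻¹ * (a ^ m)⁻¹) =
      a ^ m * (a ^ n * g * (a ^ n)⁻¹) * (a ^ m)⁻¹ by group]
  have hnot : ∀ n, ¬ r ∣ n → ¬ P n := by
    intro n hn hP
    have hmul : ∀ j, P (n * j) := fun j => by
      induction j with
      | zero => intro g _; simp
      | succ j ih => rw [Nat.mul_succ]; exact hPadd _ _ ih hP
    obtain ⟨j, -, hj⟩ := Nat.exists_mul_mod_eq_one_of_coprime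
      ((hr.coprime_iff_not_dvd.2 hn).symm) hr.one_lt
    have hPa : ∀ g ∈ B, c (a * g * a⁻¹) = c g := by
      have := hmul j
      intro g hg
      have h1 := this g hg
      have e : a ^ (n * j) = a := by
        conv_rhs => rw [← pow_one a]
        rw [← Nat.div_add_mod (n * j) r, hj, pow_add, pow_mul, har, one_pow, one_mul, pow_one]
      rwa [e] at h1
    have e1 : ρ z' (ρ z v) = v := by
      rw [hc z hz, map_smul, hc z' hz'B, hPa z hz, smul_smul]
      by_cases h : ρ z v = v <;> simp [c, h]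
    rw [e1] at hvv
    exact hv0 (eq_zero_of_neg_eq hp (neg_eq_of_add_eq_zero_left hvv))
  -- the orbit sum is fixed, hence zero
  let u : ℕ → V := fun i => ρ (a ^ i) v
  have hsum : ∑ i ∈ Finset.range r, u i = 0 := by
    refine hfix _ ?_
    rw [map_sum]
    have e : ∀ i, ρ a (u i) = u (i + 1) := fun i => by
      show ρ a (ρ (a ^ i) v) = ρ (a ^ (i + 1)) v
      rw [← rho_mul ρ, pow_succ']
    simp only [e]
    have h := Finset.sum_range_succ u r
    rw [Finset.sum_range_succ' u r] at h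
    have e0 : u r = u 0 := by show ρ (a ^ r) v = ρ (a ^ 0) v; rw [har, pow_zero]
    rw [e0] at h
    exact add_right_cancel h
  have hconjinv : ∀ i, i ≤ r → (a ^ i)⁻¹ = a ^ (r - i) := fun i hi => by
    rw [inv_eq_iff_mul_eq_one, ← pow_add, Nat.add_sub_cancel' hi, har]
  have h0 := eq_zero_of_sum (fun g : B => ρ (g : Γ))
    (fun i (g : B) => c ((a ^ i)⁻¹ * (g : Γ) * a ^ i)) (Finset.range r) u
    (fun i hi g => by
      have hir : i ≤ r := (Finset.mem_range.1 hi).le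
      have hg : (a ^ i)⁻¹ * (g : Γ) * a ^ i ∈ B := by
        have := haB (r - i) g g.2
        rwa [← hconjinv i hir, inv_inv] at this
      show ρ (g : Γ) (ρ (a ^ i) v) = _ • ρ (a ^ i) v
      rw [← map_smul, ← hc _ hg, ← rho_mul ρ, ← rho_mul ρ,
        show a ^ i * ((a ^ i)⁻¹ * (g : Γ) * a ^ i) = (g : Γ) * a ^ i by group])
    (fun i hi j hj hij => by
      -- if both translates agree then a nontrivial exponent fixes the sign system
      by_contra hcon
      push Not at hcon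
      wlog hlt : i < j generalizing i j
      · exact this j hj i hi (Ne.symm hij) (fun g => (hcon g).symm) (by omega)
      have hjr := Finset.mem_range.1 hj
      refine hnot (j - i) (fun hd => ?_) fun g hg => ?_
      · have := Nat.le_of_dvd (by omega) hd
        omega
      have hg' := haB j g hg
      have h1 := hcon ⟨_, hg'⟩
      have hj' : a ^ j = a ^ i * a ^ (j - i) := by rw [← pow_add]; congr 1; omega
      rwa [show (a ^ i)⁻¹ * (a ^ j * g * (a ^ j)⁻¹) * a ^ i =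
          a ^ (j - i) * g * (a ^ (j - i))⁻¹ by rw [hj']; group,
        show (a ^ j)⁻¹ * (a ^ j * g * (a ^ j)⁻¹) * a ^ j = g by group] at h1)
    hsum 0 (Finset.mem_range.2 hr.pos)
  refine hv0 ?_
  have : u 0 = v := by show ρ (a ^ 0) v = v; rw [pow_zero, rho_one ρ]
  rw [← this, h0]

/-- The structure supplied by the Hall-Higman-Shult theorem. -/
structure Special (A : Subgroup Γ) (a : Γ) (Y : Subgroup Γ) : Prop where
  le : Y ≤ A
  conjA : ∀ g ∈ A, ∀ y ∈ Y, g * y * g⁻¹ ∈ Y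
  conja : ∀ y ∈ Y, a * y * a⁻¹ ∈ Y
  comm_mem : ∀ g ∈ A, g * a * g⁻¹ * a⁻¹ ∈ Y
  gen : Y = Subgroup.closure {t | ∃ y ∈ Y, t = y * a * y⁻¹ * a⁻¹}
  twoGroup : IsPGroup 2 Y
  sq_mem : ∀ y ∈ Y, ∀ h ∈ Y, Commute (y * y) h
  comm_central : ∀ f ∈ Y, ∀ g ∈ Y, ∀ h ∈ Y, Commute (f * g * f⁻¹ * g⁻¹) h
  central_sq : ∀ z ∈ Y, (∀ h ∈ Y, Commute z h) → z * z = 1
  gen_central : ∀ z ∈ Y, (∀ h ∈ Y, Commute z h) →
    z ∈ Subgroup.closure {t | ∃ f ∈ Y, ∃ g ∈ Y, t = f * g * f⁻¹ * g⁻¹}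

/-- A special 2-group has central squares, commutators and a centre of exponent two generated by
commutators. -/
theorem special_of_isSpecial {Y : Subgroup Γ} [Finite Y] (h : Cfsg.IsSpecial 2 Y) :
    IsPGroup 2 Y ∧ (∀ y ∈ Y, ∀ h ∈ Y, Commute (y * y) h) ∧
    (∀ f ∈ Y, ∀ g ∈ Y, ∀ h ∈ Y, Commute (f * g * f⁻¹ * g⁻¹) h) ∧
    (∀ z ∈ Y, (∀ h ∈ Y, Commute z h) → z * z = 1) ∧
    (∀ z ∈ Y, (∀ h ∈ Y, Commute z h) →
      z ∈ Subgroup.closure {t | ∃ f ∈ Y, ∃ g ∈ Y, t = f * g * f⁻¹ * g⁻¹}) := by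
  obtain ⟨hP, hΦ, hD⟩ := h
  have := Fact.mk Nat.prime_two
  have hsq : ∀ y ∈ Y, ∀ h ∈ Y, Commute (y * y) h := by
    intro y hy h hh
    have h1 : (⟨y, hy⟩ : Y) ^ 2 ∈ Subgroup.center Y := hΦ ▸ PGroup.pow_mem_frattini hP _
    rw [pow_two] at h1
    exact (congrArg Subtype.val (Subgroup.mem_center_iff.1 h1 ⟨h, hh⟩)).symm
  have hgen : ∀ z ∈ Y, (∀ h ∈ Y, Commute z h) →
      z ∈ Subgroup.closure {t | ∃ f ∈ Y, ∃ g ∈ Y, t = f * g * f⁻¹ * g⁻¹} := by
    intro z hz hzc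
    have h1 : (⟨z, hz⟩ : Y) ∈ commutator Y :=
      hD ▸ Subgroup.mem_center_iff.2 fun t => Subtype.ext (hzc t t.2).symm
    have h2 := Subgroup.mem_map_of_mem Y.subtype h1
    rw [commutator_eq_closure, MonoidHom.map_closure] at h2
    refine Subgroup.closure_mono ?_ h2
    rintro _ ⟨_, ⟨f, g, rfl⟩, rfl⟩
    exact ⟨f, f.2, g, g.2, by simp [commutatorElement_def]⟩
  have hcc : ∀ f ∈ Y, ∀ g ∈ Y, ∀ h ∈ Y, Commute (f * g * f⁻¹ * g⁻¹) h := by
    intro f hf g hg h hh
    have h1 : (⟨f, hf⟩ : Y) * ⟨g, hg⟩ * (⟨f, hf⟩ : Y)⁻¹ * (⟨g, hg⟩ : Y)⁻¹ ∈ Subgroup.center Y := by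
      rw [← hD, commutator_eq_closure]
      refine Subgroup.subset_closure ?_
      rw [← commutatorElement_def]
      exact ⟨⟨f, hf⟩, ⟨g, hg⟩, rfl⟩
    exact (congrArg Subtype.val (Subgroup.mem_center_iff.1 h1 ⟨h, hh⟩)).symm
  refine ⟨hP, hsq, hcc, ?_, hgen⟩
  intro z hz hzc
  let K : Subgroup Γ :=
    { carrier := {t | t ∈ Y ∧ (∀ h ∈ Y, Commute t h) ∧ t * t = 1}
      one_mem' := ⟨Y.one_mem, fun h _ => Commute.one_left h, one_mul 1⟩
      mul_mem' := fun {s t} hs ht => ⟨Y.mul_mem hs.1 ht.1, fun h hh => (hs.2.1 h hh).mul_left (ht.2.1 h hh),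
        by rw [mul_assoc s t, ← mul_assoc t s, (ht.2.1 s hs.1).eq, mul_assoc s t, ht.2.2, mul_one,
          hs.2.2]⟩
      inv_mem' := fun {s} hs => ⟨Y.inv_mem hs.1, fun h hh => (hs.2.1 h hh).inv_left,
        by rw [inv_eq_of_mul_eq_one_right hs.2.2, hs.2.2]⟩ }
  have hsub : Subgroup.closure {t | ∃ f ∈ Y, ∃ g ∈ Y, t = f * g * f⁻¹ * g⁻¹} ≤ K := by
    rw [Subgroup.closure_le]
    rintro _ ⟨f, hf, g, hg, rfl⟩
    refine ⟨Y.mul_mem (Y.mul_mem (Y.mul_mem hf hg) (Y.inv_mem hf)) (Y.inv_mem hg), hcc f hf g hg, ?_⟩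
    set c := f * g * f⁻¹ * g⁻¹ with hcdef
    have e1 : f * g = c * (g * f) := by rw [hcdef]; group
    have e2 : f * f * g = g * (f * f) := (hsq f hf g hg).eq
    have hcf : c * f = f * c := (hcc f hf g hg f hf).eq
    have e3 : f * f * g = c * c * (g * (f * f)) := by
      calc f * f * g = f * (c * (g * f)) := by rw [mul_assoc, e1]
        _ = c * (f * g) * f := by rw [← mul_assoc, ← hcf]; group
        _ = c * c * (g * (f * f)) := by rw [e1]; group
    rw [e2] at e3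
    exact (mul_eq_right.1 e3.symm)
  exact (hsub (hgen z hz hzc)).2.2

end Cfsg.Agent.FpfAutomizer
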