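/-
An elementary abelian 2-group with a fixed-point-free automorphism of Fermat prime order, and some
arithmetic (owner: helper90).

Main results: `fixed_eq_one`, `four_pow_le_card`, `sq_fix_of_small`, `eq_one_or_nine`.
-/
import Cfsg.Agent.EqLemmas
import Mathlib.GroupTheory.PGroup

set_option autoImplicit false
set_option linter.unusedSectionVars false

namespace Cfsg.Agent.FpfAutomizer

variable {Q : Type*} [CommGroup Q] [Finite Q] {b : MulAut Q} {r k : ℕ}

/-- If the elements `q⁻¹ b(q)` generate, `b` fixes only the identity. -/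
theorem fixed_eq_one (hb : b ^ r = 1) (h2 : ∀ q : Q, q * q = 1) (hr : Odd r)
    (hgen : Subgroup.closure {y | ∃ q : Q, y = q⁻¹ * b q} = ⊤) {c : Q} (hc : b c = c) : c = 1 := by
  let N : Q →* Q :=
    { toFun := fun q => ∏ i ∈ Finset.range r, (b ^ i) q
      map_one' := by simp
      map_mul' := fun x y => by simp [Finset.prod_mul_distrib] }
  have hN : ∀ q, N q = 1 := by
    intro q
    have hle : Subgroup.closure {y | ∃ q : Q, y = q⁻¹ * b q} ≤ N.ker := by
      refine (Subgroup.closure_le _).2 ?_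
      rintro _ ⟨x, rfl⟩
      show N (x⁻¹ * b x) = 1
      rw [map_mul, map_inv, inv_mul_eq_one]
      show ∏ i ∈ Finset.range r, (b ^ i) x = ∏ i ∈ Finset.range r, (b ^ i) (b x)
      have e : ∀ i, (b ^ i) (b x) = (b ^ (i + 1)) x := fun i => by rw [pow_succ, MulAut.mul_apply]
      simp only [e]
      have h := Finset.prod_range_succ (fun i => (b ^ i) x) r
      rw [Finset.prod_range_succ' (fun i => (b ^ i) x) r, hb, pow_zero] at h
      exact (mul_right_cancel h).symm
    exact hle (hgen ▸ Subgroup.mem_top q)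
  have hfix : ∀ i, (b ^ i) c = c := fun i => by
    induction i with
    | zero => simp
    | succ i ih => rw [pow_succ', MulAut.mul_apply, ih, hc]
  have h1 : c ^ r = 1 := by
    have := hN c
    simpa [N, hfix] using this
  obtain ⟨j, rfl⟩ := hr
  rwa [pow_succ, pow_mul, pow_two, h2, one_pow, one_mul] at h1

/-- The order of 2 modulo `2 ^ k + 1` is at least `2 * k`. -/
theorem two_mul_le_of_dvd {i : ℕ} (hk : 1 ≤ k) (hi : i ≠ 0) (h : (2 ^ k + 1) ∣ 2 ^ i - 1) :
    2 * k ≤ i := by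
  have h2 : 2 ≤ 2 ^ k := le_trans (le_of_eq (pow_one 2).symm) (Nat.pow_le_pow_right two_pos hk)
  have hi1 : 2 ≤ 2 ^ i :=
    le_trans (le_of_eq (pow_one 2).symm) (Nat.pow_le_pow_right two_pos (Nat.pos_of_ne_zero hi))
  rcases le_or_gt i k with hik | hki
  · have := Nat.pow_le_pow_right two_pos hik
    have := Nat.le_of_dvd (by omega) h
    omega
  by_contra hlt
  obtain ⟨j, rfl⟩ : ∃ j, i = k + j := ⟨i - k, by omega⟩
  have hj : 2 ^ j + 1 < 2 ^ k + 1 := by
    have := Nat.pow_lt_pow_right one_lt_two (show j < k by omega)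
    omega
  have h3 : (2 ^ k + 1) ∣ 2 ^ j + 1 := by
    have e : 2 ^ (k + j) - 1 + (2 ^ j + 1) = 2 ^ j * (2 ^ k + 1) := by
      have h0 : 2 ^ (k + j) = 2 ^ j * 2 ^ k := by rw [pow_add, mul_comm]
      rw [mul_add, mul_one, ← h0]
      have := Nat.one_le_two_pow (n := k + j)
      omega
    exact (Nat.dvd_add_right h).1 (e ▸ Dvd.intro_left _ rfl)
  have := Nat.le_of_dvd (Nat.succ_pos _) h3
  omega

/-- A nontrivial invariant subgroup has at least `4 ^ k` elements. -/
theorem four_pow_le_card (hb : b ^ r = 1) (h2 : ∀ q : Q, q * q = 1) (hr : r.Prime)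
    (hk : r = 2 ^ k + 1) (hk1 : 1 ≤ k) (hfix : ∀ c : Q, b c = c → c = 1) {U : Subgroup Q}
    (hU : ∀ u ∈ U, b u ∈ U) (hne : U ≠ ⊥) : 4 ^ k ≤ Nat.card U := by
  haveI := Fact.mk hr
  haveI := Fact.mk Nat.prime_two
  let B := Subgroup.zpowers b
  have hB : IsPGroup r B := by
    rintro ⟨y, i, rfl⟩
    refine ⟨1, Subtype.ext ?_⟩
    show (b ^ i) ^ (r ^ 1) = 1
    rw [pow_one, ← zpow_natCast, ← zpow_mul, mul_comm, zpow_mul, zpow_natCast, hb, one_zpow]
  have hUB : ∀ (g : B) (u : Q), u ∈ U → (g : MulAut Q) u ∈ U := by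
    rintro ⟨g, hg⟩ u hu
    obtain ⟨i, rfl⟩ := mem_powers_iff_mem_zpowers.2 hg
    show (b ^ i) u ∈ U
    induction i with
    | zero => simpa using hu
    | succ i ih =>
      rw [pow_succ', MulAut.mul_apply]
      exact hU _ (ih (mem_powers_iff_mem_zpowers.1 ⟨i, rfl⟩))
  letI : MulAction B U :=
    { smul := fun g u => ⟨(g : MulAut Q) u, hUB g u u.2⟩
      one_smul := fun u => rfl
      mul_smul := fun g h u => rfl }
  have hfp : MulAction.fixedPoints B U = {1} := by
    ext u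
    constructor
    · intro hu
      exact Subtype.ext (hfix u (congrArg Subtype.val (hu ⟨b, Subgroup.mem_zpowers b⟩) :))
    · rintro rfl g
      exact Subtype.ext (map_one (g : MulAut Q))
  have hmod := hB.card_modEq_card_fixedPoints U
  rw [hfp, Nat.card_coe_set_eq, Set.ncard_singleton] at hmod
  obtain ⟨i, hi⟩ : ∃ i, Nat.card U = 2 ^ i := IsPGroup.iff_card.1 fun u =>
    ⟨1, Subtype.ext (by rw [pow_one, pow_two]; exact h2 u)⟩
  have hi0 : i ≠ 0 := fun h => hne (Subgroup.card_eq_one.1 (by rw [hi, h, pow_zero]))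
  have hd : r ∣ 2 ^ i - 1 :=
    (Nat.modEq_iff_dvd' (Nat.one_le_two_pow)).1 (by rw [hi] at hmod; exact hmod.symm)
  rw [hi, show (4 : ℕ) = 2 ^ 2 from rfl, ← pow_mul]
  exact Nat.pow_le_pow_right two_pos (two_mul_le_of_dvd hk1 hi0 (hk ▸ hd))

/-- A 2-element `e` of the centralizer of `b`: either the group has at least `4 ^ (2 k)` elements,
or `e` is trivial; when it has at most `16` elements `e ^ 2` is trivial. -/
theorem sq_fix_of_small (hb : b ^ r = 1) (h2 : ∀ q : Q, q * q = 1) (hr : r.Prime)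
    (hk : r = 2 ^ k + 1) (hk1 : 1 ≤ k) (hfix : ∀ c : Q, b c = c → c = 1) {e : MulAut Q} {j : ℕ}
    (he : e ^ 2 ^ j = 1) (hcomm : ∀ q, e (b q) = b (e q)) (hne : ∃ q, e q ≠ q) :
    4 ^ (2 * k) ≤ Nat.card Q ∧ (Nat.card Q ≤ 16 → ∀ q, e (e q) = q) := by
  haveI := Fact.mk Nat.prime_two
  let N : Q →* Q :=
    { toFun := fun q => q⁻¹ * e q
      map_one' := by simp
      map_mul' := fun x y => by rw [map_mul, mul_inv, mul_mul_mul_comm] }
  have hNb : ∀ q, N (b q) = b (N q) := fun q => by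
    show (b q)⁻¹ * e (b q) = b (q⁻¹ * e q)
    rw [hcomm, map_mul, map_inv]
  have hM : ∀ u ∈ N.range, b u ∈ N.range := by
    rintro _ ⟨q, rfl⟩
    exact ⟨b q, hNb q⟩
  have hMne : N.range ≠ ⊥ := fun h => by
    obtain ⟨q, hq⟩ := hne
    have h1 : N q ∈ N.range := ⟨q, rfl⟩
    rw [h, Subgroup.mem_bot] at h1
    exact hq (inv_mul_eq_one.1 h1).symm
  -- a 2-element fixes a nontrivial element of a nontrivial invariant subgroup
  have hexfix : ∀ U : Subgroup Q, (∀ u ∈ U, e u ∈ U) → U ≠ ⊥ → ∃ u ∈ U, u ≠ 1 ∧ N u = 1 := by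
    intro U hU hUne
    let B := Subgroup.zpowers e
    have hB : IsPGroup 2 B := by
      rintro ⟨y, i, rfl⟩
      refine ⟨j, Subtype.ext ?_⟩
      show (e ^ i) ^ (2 ^ j) = 1
      rw [← zpow_natCast, ← zpow_mul, mul_comm, zpow_mul, zpow_natCast, he, one_zpow]
    have hUB : ∀ (g : B) (u : Q), u ∈ U → (g : MulAut Q) u ∈ U := by
      rintro ⟨g, hg⟩ u hu
      obtain ⟨i, rfl⟩ := mem_powers_iff_mem_zpowers.2 hg
      show (e ^ i) u ∈ U
      induction i with
      | zero => simpa using hu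
      | succ i ih =>
        rw [pow_succ', MulAut.mul_apply]
        exact hU _ (ih (mem_powers_iff_mem_zpowers.1 ⟨i, rfl⟩))
    letI : MulAction B U :=
      { smul := fun g u => ⟨(g : MulAut Q) u, hUB g u u.2⟩
        one_smul := fun u => rfl
        mul_smul := fun g h u => rfl }
    have hdvd : 2 ∣ Nat.card U := by
      obtain ⟨i, hi⟩ : ∃ i, Nat.card U = 2 ^ i := IsPGroup.iff_card.1 fun u =>
        ⟨1, Subtype.ext (by rw [pow_one, pow_two]; exact h2 u)⟩
      rcases Nat.eq_zero_or_pos i with rfl | hi0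
      · exact absurd (Subgroup.card_eq_one.1 (by rw [hi, pow_zero])) hUne
      · exact hi ▸ dvd_pow_self 2 hi0.ne'
    obtain ⟨u, hu, hu1⟩ := hB.exists_fixed_point_of_prime_dvd_card_of_fixed_point U hdvd
      (a := (1 : U)) (fun g => Subtype.ext (map_one (g : MulAut Q)))
    refine ⟨u, u.2, fun h => hu1 (Subtype.ext h.symm), ?_⟩
    show (u : Q)⁻¹ * e u = 1
    rw [inv_mul_eq_one]
    exact (congrArg Subtype.val (hu ⟨e, Subgroup.mem_zpowers e⟩)).symm
  have hK : ∀ u ∈ N.ker, b u ∈ N.ker := fun u hu => by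
    rw [MonoidHom.mem_ker] at hu ⊢
    rw [hNb, hu, map_one]
  have hKne : N.ker ≠ ⊥ := fun h => by
    obtain ⟨u, -, hu1, hu⟩ := hexfix ⊤ (fun _ _ => Subgroup.mem_top _) (fun e => by
      obtain ⟨q, hq⟩ := hne
      have := Subgroup.mem_top q
      rw [e, Subgroup.mem_bot] at this
      exact hq (by rw [this, map_one]))
    exact hu1 (Subgroup.mem_bot.1 (h ▸ hu))
  have hMcard := four_pow_le_card hb h2 hr hk hk1 hfix hM hMne
  have hKcard := four_pow_le_card hb h2 hr hk hk1 hfix hK hKne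
  have hmul : Nat.card N.range * Nat.card N.ker = Nat.card Q := by
    rw [← Subgroup.index_ker, mul_comm]
    exact N.ker.card_mul_index
  refine ⟨hmul ▸ (by rw [two_mul, pow_add]; exact Nat.mul_le_mul hMcard hKcard), fun h16 => ?_⟩
  -- `N ∘ N = 1`
  have hNN : ∀ u ∈ N.range, N u = 1 := by
    have he' : ∀ u ∈ N.range, e u ∈ N.range := by
      rintro _ ⟨q, rfl⟩
      exact ⟨e q, by show (e q)⁻¹ * e (e q) = e (q⁻¹ * e q); rw [map_mul, map_inv]⟩
    obtain ⟨u₀, hu₀, hu₀1, hu₀N⟩ := hexfix _ he' hMne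
    by_contra hcon
    push Not at hcon
    obtain ⟨u, hu, hNu⟩ := hcon
    have hM' : ∀ w ∈ N.range.map N, b w ∈ N.range.map N := by
      rintro _ ⟨w, hw, rfl⟩
      exact ⟨b w, hM w hw, hNb w⟩
    have hM'ne : N.range.map N ≠ ⊥ := fun e => hNu (Subgroup.mem_bot.1 (e ▸ Subgroup.mem_map_of_mem N hu))
    have h1 := four_pow_le_card hb h2 hr hk hk1 hfix hM' hM'ne
    have h4 : 4 ≤ 4 ^ k := le_trans (le_of_eq (pow_one 4).symm) (Nat.pow_le_pow_right (by norm_num) hk1)
    have h2M : 2 * Nat.card (N.range.map N) ≤ Nat.card N.range := by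
      let N' : N.range →* Q := N.comp N.range.subtype
      have e1 : Nat.card N'.range * Nat.card N'.ker = Nat.card N.range := by
        rw [← Subgroup.index_ker, mul_comm]
        exact N'.ker.card_mul_index
      have e2 : N'.range = N.range.map N := by
        rw [MonoidHom.range_comp, Subgroup.range_subtype]
      have e3 : 2 ≤ Nat.card N'.ker :=
        (Subgroup.one_lt_card_iff_ne_bot _).2 fun e => by
          have hm : (⟨u₀, hu₀⟩ : N.range) ∈ N'.ker := hu₀N
          rw [e, Subgroup.mem_bot] at hm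
          exact hu₀1 (congrArg (fun z : N.range => (z : Q)) hm)
      rw [← e2, ← e1]
      calc 2 * Nat.card N'.range = Nat.card N'.range * 2 := Nat.mul_comm _ _
        _ ≤ _ := Nat.mul_le_mul_left _ e3
    have : 8 * 4 ≤ Nat.card N.range * Nat.card N.ker := Nat.mul_le_mul (by omega) (h4.trans hKcard)
    omega
  intro q
  have h1 : (q⁻¹ * e q)⁻¹ * e (q⁻¹ * e q) = 1 := hNN _ ⟨q, rfl⟩
  rw [inv_mul_eq_one, map_mul, map_inv] at h1
  calc e (e q) = e q * ((e q)⁻¹ * e (e q)) := by group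
    _ = e q * (q⁻¹ * e q) := by rw [← h1]
    _ = q⁻¹ * (e q * e q) := by rw [mul_left_comm]
    _ = q := by rw [h2, mul_one, inv_eq_of_mul_eq_one_right (h2 q)]

/-- An odd prime power one more than a power of 2 is the prime itself, or 9. -/
theorem eq_one_or_nine {p m c : ℕ} (hp : p.Prime) (hp2 : p ≠ 2) (hm : m ≠ 0) (h : p ^ m = 2 ^ c + 1) :
    m = 1 ∨ (p = 3 ∧ m = 2) := by
  rcases Nat.even_or_odd m with ⟨l, rfl⟩ | hodd
  · right
    have h3 : 3 ≤ p := by
      have := hp.two_le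
      omega
    have hl : 1 ≤ l := by omega
    have hpl : 3 ≤ p ^ l := h3.trans (Nat.le_self_pow (by omega) p)
    have hprod : (p ^ l - 1) * (p ^ l + 1) = 2 ^ c := by
      rw [mul_comm, ← Nat.sq_sub_sq, one_pow, ← pow_mul, mul_two, h]
      simp
    obtain ⟨i, -, hi⟩ := (Nat.dvd_prime_pow Nat.prime_two).1 (Dvd.intro _ hprod)
    obtain ⟨j, -, hj⟩ := (Nat.dvd_prime_pow Nat.prime_two).1 (Dvd.intro_left _ hprod)
    have hi2 : i = 1 := by
      by_contra hne
      rcases Nat.lt_or_ge i 2 with hlt | hge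
      · interval_cases i
        · simp at hi
          omega
        · exact hne rfl
      · have hij : i < j := (Nat.pow_lt_pow_iff_right one_lt_two).1 (by omega)
        have h4i : 4 ∣ 2 ^ i := Nat.pow_dvd_pow 2 hge
        have h4j : 4 ∣ 2 ^ j := Nat.pow_dvd_pow 2 (by omega : 2 ≤ j)
        omega
    rw [hi2] at hi
    have hpl3 : p ^ l = 3 := by omega
    have hl1 : l = 1 := by
      by_contra hne
      have := Nat.pow_le_pow_right hp.pos (show 2 ≤ l by omega)
      nlinarith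
    subst hl1
    exact ⟨by simpa using hpl3, rfl⟩
  · left
    by_contra hne
    have h1 : (p - 1) * (∑ i ∈ Finset.range m, p ^ i) = 2 ^ c := by
      have := geom_sum_mul_of_one_le hp.one_lt.le m
      rw [h] at this
      rw [mul_comm, this]
      simp
    obtain ⟨i, -, hi⟩ := (Nat.dvd_prime_pow Nat.prime_two).1 (Dvd.intro_left _ h1)
    have hpodd : p % 2 = 1 := hp.eq_two_or_odd.resolve_left hp2
    have hsum : (∑ i ∈ Finset.range m, p ^ i) % 2 = m % 2 := by
      rw [Finset.sum_nat_mod]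
      simp [Nat.pow_mod, hpodd]
    have hm2 : m % 2 = 1 := Nat.odd_iff.1 hodd
    have hi0 : i = 0 := by
      by_contra h0
      have : 2 ∣ 2 ^ i := dvd_pow_self 2 h0
      omega
    rw [hi0, pow_zero] at hi
    have : ∑ i ∈ Finset.range m, p ^ i ≥ ∑ i ∈ Finset.range m, 1 :=
      Finset.sum_le_sum fun i _ => Nat.one_le_pow _ _ hp.pos
    simp at this
    omega

end Cfsg.Agent.FpfAutomizer
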