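/-
A special 2-group on a block where a commutator acts as minus one: the quotient by the scalars has at
most `d ^ 2` elements, `d` the dimension of the block (owner: helper90).

Main results: `Scal`, `conj_central`, `block`.
-/
import Cfsg.Agent.Lib.FpfAutomizer.Common
import Cfsg.Agent.Lib.FpfAutomizer.Quot
import Mathlib.LinearAlgebra.Dimension.StrongRankCondition

set_option autoImplicit false
set_option linter.unusedSectionVars false

namespace Cfsg.Agent.FpfAutomizer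

open Module

variable {p : ℕ} [Fact p.Prime] {V : Type*} [AddCommGroup V] [Module (ZMod p) V] [Finite V]
  {Γ : Type*} [Group Γ] [Finite Γ] (ρ : Γ →* Module.End (ZMod p) V)

/-- `g` acts on `W` as `1` or as `-1`. -/
def Scal (W : Submodule (ZMod p) V) (g : Γ) : Prop :=
  (∀ w ∈ W, ρ g w = w) ∨ ∀ w ∈ W, ρ g w = -w

theorem Scal.mul {W : Submodule (ZMod p) V} {g h : Γ} (hg : Scal ρ W g) (hh : Scal ρ W h) :
    Scal ρ W (g * h) := by
  rcases hg with hg | hg <;> rcases hh with hh | hh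
  · exact Or.inl fun w hw => by rw [rho_mul ρ, hh w hw, hg w hw]
  · exact Or.inr fun w hw => by rw [rho_mul ρ, hh w hw, map_neg, hg w hw]
  · exact Or.inr fun w hw => by rw [rho_mul ρ, hh w hw, hg w hw]
  · exact Or.inl fun w hw => by rw [rho_mul ρ, hh w hw, map_neg, hg w hw, neg_neg]

theorem Scal.one (W : Submodule (ZMod p) V) : Scal ρ W (1 : Γ) := Or.inl fun w _ => rho_one ρ w

theorem Scal.inv {W : Submodule (ZMod p) V} {g : Γ} (hg : Scal ρ W g) : Scal ρ W g⁻¹ := by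
  rcases hg with hg | hg
  · exact Or.inl fun w hw => by conv_lhs => rw [← hg w hw, rho_inv_apply ρ]
  · refine Or.inr fun w hw => ?_
    have h := rho_inv_apply ρ g w
    rw [hg w hw, map_neg] at h
    exact neg_eq_iff_eq_neg.1 h

theorem exists_preimage_of_mapsTo {W : Submodule (ZMod p) V} {g : Γ}
    (hg : ∀ w ∈ W, ρ g w ∈ W) {w : V} (hw : w ∈ W) : ∃ u ∈ W, ρ g u = w := by
  let f : W → W := fun u => ⟨ρ g u, hg u u.2⟩
  have hf : Function.Injective f := fun u v e => Subtype.ext (rho_inj ρ g (congrArg Subtype.val e))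
  obtain ⟨u, hu⟩ := Finite.surjective_of_injective hf ⟨w, hw⟩
  exact ⟨u, u.2, congrArg Subtype.val hu⟩

theorem inv_mapsTo {W : Submodule (ZMod p) V} {g : Γ} (hg : ∀ w ∈ W, ρ g w ∈ W) :
    ∀ w ∈ W, ρ g⁻¹ w ∈ W := by
  intro w hw
  obtain ⟨u, hu, rfl⟩ := exists_preimage_of_mapsTo ρ hg hw
  rwa [rho_inv_apply ρ]

theorem Scal.conj {W : Submodule (ZMod p) V} {g f : Γ} (hg : ∀ w ∈ W, ρ g w ∈ W) (hf : Scal ρ W f) :
    Scal ρ W (g * f * g⁻¹) := by
  rcases hf with hf | hf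
  · refine Or.inl fun w hw => ?_
    rw [rho_mul ρ, rho_mul ρ, hf _ (inv_mapsTo ρ hg w hw), rho_apply_inv ρ]
  · refine Or.inr fun w hw => ?_
    rw [rho_mul ρ, rho_mul ρ, hf _ (inv_mapsTo ρ hg w hw), map_neg, rho_apply_inv ρ]

variable {A Y : Subgroup Γ} {a : Γ} {r k : ℕ} (hρ : Function.Injective ρ) (hp : p ≠ 2)
  (hr : r.Prime) (har : a ^ r = 1) (hfix : ∀ v, ρ a v = v → v = 0) (hS : Special A a Y)

include hρ hp hr har hfix hS in
/-- The centre of the special group is centralized by `a`. -/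
theorem conj_central {z : Γ} (hz : z ∈ Y) (hzc : ∀ h ∈ Y, Commute z h) : a * z * a⁻¹ = z := by
  refine eq_of_rho ρ hρ fun v => ?_
  refine commute_of_invol ρ hp hr har hfix {z | z ∈ Y ∧ ∀ h ∈ Y, Commute z h} ⊤
    (fun t ht => ⟨hS.conja t ht.1, fun h hh => ?_⟩) (fun _ _ _ _ => Submodule.mem_top)
    (fun t ht w _ => by rw [← rho_mul ρ, hS.central_sq t ht.1 ht.2, rho_one ρ])
    (fun t ht t' ht' w _ => by rw [← rho_mul ρ, ← rho_mul ρ, (ht.2 t' ht'.1).eq])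
    z ⟨hz, hzc⟩ v Submodule.mem_top
  -- `a` normalizes `Y`, so `a⁻¹` does
  obtain ⟨h', hh'⟩ := Finite.surjective_of_injective
    (f := fun y : Y => (⟨a * y * a⁻¹, hS.conja y y.2⟩ : Y))
    (fun u v e => Subtype.ext (mul_left_cancel (mul_right_cancel (congrArg Subtype.val e)))) ⟨h, hh⟩
  have e : a * (h' : Γ) * a⁻¹ = h := congrArg Subtype.val hh'
  rw [← e]
  show a * t * a⁻¹ * (a * h' * a⁻¹) = a * h' * a⁻¹ * (a * t * a⁻¹)
  rw [show a * t * a⁻¹ * (a * h' * a⁻¹) = a * (t * h') * a⁻¹ by group, (ht.2 h' h'.2).eq]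
  group

include hρ hp hr har hfix hS in
/-- On a block where some commutator acts as `-1`. -/
theorem block (hk : r = 2 ^ k + 1) (hk1 : 1 ≤ k) (W : Submodule (ZMod p) V) (hW : W ≠ ⊥)
    (hY : ∀ f ∈ Y, ∀ w ∈ W, ρ f w ∈ W) (haW : ∀ w ∈ W, ρ a w ∈ W)
    (hZ : ∀ z ∈ Y, (∀ h ∈ Y, Commute z h) → Scal ρ W z)
    (hne : ∃ f ∈ Y, ∃ h ∈ Y, ∀ w ∈ W, ρ (f * h * f⁻¹ * h⁻¹) w = -w) :
    (∀ f ∈ Y, (∀ h ∈ Y, ∀ w ∈ W, ρ f (ρ h w) = ρ h (ρ f w)) → Scal ρ W f) ∧
    4 ^ k ≤ finrank (ZMod p) W * finrank (ZMod p) W ∧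
    (∀ x ∈ A, (∀ w ∈ W, ρ x w ∈ W) → (∃ j, x ^ 2 ^ j = 1) →
      (∃ f ∈ Y, ¬ Scal ρ W (x * f * x⁻¹ * f⁻¹)) →
      4 ^ (2 * k) ≤ finrank (ZMod p) W * finrank (ZMod p) W ∧
      (finrank (ZMod p) W * finrank (ZMod p) W ≤ 16 →
        ∀ f ∈ Y, Scal ρ W (x * x * f * (x * x)⁻¹ * f⁻¹))) := by
  classical
  have hc : ∀ f ∈ Y, ∀ h ∈ Y, Scal ρ W (f * h * f⁻¹ * h⁻¹) := fun f hf h hh =>
    hZ _ (Y.mul_mem (Y.mul_mem (Y.mul_mem hf hh) (Y.inv_mem hf)) (Y.inv_mem hh))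
      (hS.comm_central f hf h hh)
  let Z₀ : Subgroup Y :=
    { carrier := {f | Scal ρ W (f : Γ)}
      one_mem' := Scal.one ρ W
      mul_mem' := fun hf hg => Scal.mul ρ hf hg
      inv_mem' := fun hf => Scal.inv ρ hf }
  have hN : Z₀.Normal := ⟨fun f hf g => by
    have e : ((g * f * g⁻¹ : Y) : Γ) = ((g : Γ) * f * (g : Γ)⁻¹ * (f : Γ)⁻¹) * f := by
      simp [mul_assoc]
    show Scal ρ W ((g * f * g⁻¹ : Y) : Γ)
    rw [e]
    exact Scal.mul ρ (hc g g.2 f f.2) hf⟩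
  letI : CommGroup (Y ⧸ Z₀) :=
    { (inferInstance : Group (Y ⧸ Z₀)) with
      mul_comm := by
        intro u v
        induction u using QuotientGroup.induction_on with | _ f => ?_
        induction v using QuotientGroup.induction_on with | _ h => ?_
        rw [← QuotientGroup.mk_mul, ← QuotientGroup.mk_mul, QuotientGroup.eq]
        have e : (((f * h)⁻¹ * (h * f) : Y) : Γ) =
            (h : Γ)⁻¹ * (f : Γ)⁻¹ * ((h : Γ)⁻¹)⁻¹ * ((f : Γ)⁻¹)⁻¹ := by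
          simp [mul_assoc]
        show Scal ρ W (((f * h)⁻¹ * (h * f) : Y) : Γ)
        rw [e]
        exact hc _ (Y.inv_mem h.2) _ (Y.inv_mem f.2) }
  have hmk : ∀ f : Y, ((f : Y ⧸ Z₀) = 1 ↔ Scal ρ W (f : Γ)) := fun f => QuotientGroup.eq_one_iff f
  have h2 : ∀ q : Y ⧸ Z₀, q * q = 1 := by
    intro q
    induction q using QuotientGroup.induction_on with | _ f => ?_
    rw [← QuotientGroup.mk_mul, hmk]
    exact hZ _ (f * f).2 (hS.sq_mem f f.2)
  -- automorphisms induced by conjugation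
  have hconj : ∀ g : Γ, (∀ f ∈ Y, g * f * g⁻¹ ∈ Y) → (∀ w ∈ W, ρ g w ∈ W) →
      ∃ b : MulAut (Y ⧸ Z₀), ∀ (n : ℕ) (f f' : Y), (f' : Γ) = g ^ n * f * (g ^ n)⁻¹ →
        (b ^ n) (f : Y ⧸ Z₀) = f' := by
    intro g hgY hgW
    let φ : Y →* Y :=
      { toFun := fun f => ⟨g * f * g⁻¹, hgY f f.2⟩
        map_one' := Subtype.ext (by simp)
        map_mul' := fun u v => Subtype.ext (by simp [mul_assoc]) }
    have hφ : Function.Injective φ := fun u v e =>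
      Subtype.ext (mul_left_cancel (mul_right_cancel (congrArg Subtype.val e)))
    let ψ : Y ⧸ Z₀ →* Y ⧸ Z₀ := QuotientGroup.map Z₀ Z₀ φ fun f hf => Scal.conj ρ hgW hf
    have hψ : Function.Surjective ψ := by
      intro q
      induction q using QuotientGroup.induction_on with | _ f => ?_
      obtain ⟨f', rfl⟩ := Finite.surjective_of_injective hφ f
      exact ⟨f', rfl⟩
    refine ⟨MulEquiv.ofBijective ψ ⟨Finite.injective_iff_surjective.2 hψ, hψ⟩, fun n => ?_⟩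
    induction n with
    | zero =>
      intro f f' e
      simp only [pow_zero, one_mul, inv_one, mul_one] at e
      rw [pow_zero, MulAut.one_apply]
      exact congrArg _ (Subtype.ext e.symm : f = f')
    | succ n ih =>
      intro f f' e
      rw [pow_succ, MulAut.mul_apply]
      show (_ ^ n : MulAut (Y ⧸ Z₀)) (φ f : Y ⧸ Z₀) = f'
      refine ih (φ f) f' ?_
      show (f' : Γ) = g ^ n * (g * f * g⁻¹) * (g ^ n)⁻¹
      rw [e, pow_succ, mul_inv_rev]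
      group
  obtain ⟨b, hb⟩ := hconj a hS.conja haW
  have hb1 : ∀ (f : Y), b (f : Y ⧸ Z₀) = ((⟨a * f * a⁻¹, hS.conja f f.2⟩ : Y) : Y ⧸ Z₀) := fun f => by
    have := hb 1 f ⟨a * f * a⁻¹, hS.conja f f.2⟩ (by simp)
    rwa [pow_one] at this
  have hbr : b ^ r = 1 := by
    ext q
    induction q using QuotientGroup.induction_on with | _ f => ?_
    rw [MulAut.one_apply]
    exact hb r f f (by simp [har])
  have hgen : Subgroup.closure {y | ∃ q : Y ⧸ Z₀, y = q⁻¹ * b q} = ⊤ := by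
    rw [eq_top_iff]
    rintro q -
    induction q using QuotientGroup.induction_on with | _ f => ?_
    have hf : (f : Γ) ∈ Subgroup.closure {t | ∃ y ∈ Y, t = y * a * y⁻¹ * a⁻¹} := hS.gen ▸ f.2
    suffices ∀ t ∈ Subgroup.closure {t | ∃ y ∈ Y, t = y * a * y⁻¹ * a⁻¹}, ∃ ht : t ∈ Y,
        ((⟨t, ht⟩ : Y) : Y ⧸ Z₀) ∈ Subgroup.closure {y | ∃ q : Y ⧸ Z₀, y = q⁻¹ * b q} by
      obtain ⟨_, h⟩ := this f hf
      exact h
    intro t ht
    induction ht using Subgroup.closure_induction with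
    | mem t ht =>
      obtain ⟨y, hy, rfl⟩ := ht
      have hm : y * a * y⁻¹ * a⁻¹ ∈ Y := by
        have := Y.mul_mem hy (hS.conja _ (Y.inv_mem hy))
        rwa [show y * (a * y⁻¹ * a⁻¹) = y * a * y⁻¹ * a⁻¹ by group] at this
      refine ⟨hm, Subgroup.subset_closure ⟨((⟨y, hy⟩ : Y) : Y ⧸ Z₀), ?_⟩⟩
      have e : (⟨y * a * y⁻¹ * a⁻¹, hm⟩ : Y) = ⟨y, hy⟩ *
          (⟨a * y * a⁻¹, hS.conja y hy⟩ : Y)⁻¹ := Subtype.ext (by simp [mul_assoc])
      rw [e, QuotientGroup.mk_mul, QuotientGroup.mk_inv, ← hb1 ⟨y, hy⟩,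
        inv_eq_of_mul_eq_one_right (h2 _), inv_eq_of_mul_eq_one_right (h2 _)]
    | one => exact ⟨Y.one_mem, Subgroup.one_mem _⟩
    | mul s t _ _ hs ht =>
      obtain ⟨hs1, hs2⟩ := hs
      obtain ⟨ht1, ht2⟩ := ht
      exact ⟨Y.mul_mem hs1 ht1, Subgroup.mul_mem _ hs2 ht2⟩
    | inv s _ hs =>
      obtain ⟨hs1, hs2⟩ := hs
      exact ⟨Y.inv_mem hs1, Subgroup.inv_mem _ hs2⟩
  have hr2 : Odd r := ⟨2 ^ (k - 1), by rw [hk, ← pow_succ', Nat.sub_add_cancel hk1]⟩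
  have hQfix : ∀ q : Y ⧸ Z₀, b q = q → q = 1 := fun q hq => fixed_eq_one hbr h2 hr2 hgen hq
  have hneg : ∀ g : Γ, (∀ w ∈ W, ρ g w = w) → (∀ w ∈ W, ρ g w = -w) → False := by
    intro g h1 h1'
    obtain ⟨w, hw, hw0⟩ := Submodule.exists_mem_ne_zero_of_ne_bot hW
    exact hw0 (eq_zero_of_neg_eq hp ((h1' w hw).symm.trans (h1 w hw)))
  have hC₀ : ∀ f ∈ Y, (∀ h ∈ Y, ∀ w ∈ W, ρ f (ρ h w) = ρ h (ρ f w)) → Scal ρ W f := by
    intro f hf hfc
    have hfa : a * f * a⁻¹ ∈ Y := hS.conja f hf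
    have hfac : ∀ h ∈ Y, ∀ w ∈ W, ρ (a * f * a⁻¹) (ρ h w) = ρ h (ρ (a * f * a⁻¹) w) := by
      intro h hh w hw
      obtain ⟨h', hh'⟩ := Finite.surjective_of_injective
        (f := fun y : Y => (⟨a * y * a⁻¹, hS.conja y y.2⟩ : Y))
        (fun u v e => Subtype.ext (mul_left_cancel (mul_right_cancel (congrArg Subtype.val e))))
        ⟨h, hh⟩
      have e : a * (h' : Γ) * a⁻¹ = h := congrArg Subtype.val hh'
      rw [← e, ← rho_mul ρ, ← rho_mul ρ,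
        show a * f * a⁻¹ * (a * h' * a⁻¹) = a * (f * h') * a⁻¹ by group,
        show a * h' * a⁻¹ * (a * f * a⁻¹) = a * (h' * f) * a⁻¹ by group]
      simp only [rho_mul ρ]
      rw [hfc h' h'.2 _ (inv_mapsTo ρ haW w hw)]
    set g := f * (a * f * a⁻¹) with hgdef
    have hg : g ∈ Y := Y.mul_mem hf hfa
    let B : Set Γ := {t | t ∈ Y ∧ (∀ h ∈ Y, ∀ w ∈ W, ρ t (ρ h w) = ρ h (ρ t w)) ∧
      ∀ w ∈ W, ρ t (ρ t w) = w}
    have hgB : g ∈ B := by
      refine ⟨hg, fun h hh w hw => ?_, fun w hw => ?_⟩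
      · simp only [hgdef, rho_mul ρ f (a * f * a⁻¹)]
        rw [hfac h hh w hw, hfc h hh _ (hY _ hfa w hw)]
      · simp only [hgdef, rho_mul ρ f (a * f * a⁻¹)]
        rw [hfac f hf _ (hY _ hfa w hw)]
        rw [← rho_mul ρ f f, ← rho_mul ρ (a * f * a⁻¹) (a * f * a⁻¹),
          show a * f * a⁻¹ * (a * f * a⁻¹) = a * (f * f) * a⁻¹ by group,
          conj_central ρ hρ hp hr har hfix hS (Y.mul_mem hf hf) (hS.sq_mem f hf), ← rho_mul ρ,
          hS.central_sq _ (Y.mul_mem hf hf) (hS.sq_mem f hf), rho_one ρ]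
    have hkey := commute_of_invol ρ hp hr har hfix B W (fun t ht => by
        obtain ⟨htY, htc, hts⟩ := ht
        refine ⟨hS.conja t htY, fun h hh w hw => ?_, fun w hw => ?_⟩
        · obtain ⟨h', hh'⟩ := Finite.surjective_of_injective
            (f := fun y : Y => (⟨a * y * a⁻¹, hS.conja y y.2⟩ : Y))
            (fun u v e => Subtype.ext (mul_left_cancel (mul_right_cancel (congrArg Subtype.val e))))
            ⟨h, hh⟩
          have e : a * (h' : Γ) * a⁻¹ = h := congrArg Subtype.val hh'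
          rw [← e, ← rho_mul ρ, ← rho_mul ρ,
            show a * t * a⁻¹ * (a * h' * a⁻¹) = a * (t * h') * a⁻¹ by group,
            show a * h' * a⁻¹ * (a * t * a⁻¹) = a * (h' * t) * a⁻¹ by group]
          simp only [rho_mul ρ]
          rw [htc h' h'.2 _ (inv_mapsTo ρ haW w hw)]
        · rw [← rho_mul ρ, show a * t * a⁻¹ * (a * t * a⁻¹) = a * (t * t) * a⁻¹ by group]
          simp only [rho_mul ρ]
          rw [hts _ (inv_mapsTo ρ haW w hw), rho_apply_inv ρ])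
      (fun t ht => hY t ht.1) (fun t ht => ht.2.2) (fun t ht t' ht' => ht.2.1 t' ht'.1) g hgB
    have h1 : ((⟨g, hg⟩ : Y) : Y ⧸ Z₀) = 1 := by
      refine hQfix _ ?_
      rw [hb1 ⟨g, hg⟩, QuotientGroup.eq]
      refine Or.inl fun w hw => ?_
      show ρ ((a * g * a⁻¹)⁻¹ * g) w = w
      rw [rho_mul ρ, ← hkey w hw, rho_inv_apply ρ]
    have h2' : ((⟨f, hf⟩ : Y) : Y ⧸ Z₀) * b ((⟨f, hf⟩ : Y) : Y ⧸ Z₀) = 1 := by
      rw [hb1 ⟨f, hf⟩, ← QuotientGroup.mk_mul]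
      exact h1
    refine (hmk ⟨f, hf⟩).1 (hQfix _ ?_)
    exact (mul_left_cancel ((h2 _).trans h2'.symm)).symm
  -- linear independence of representatives
  have hres : ∀ y : Y, ∀ w ∈ W, ρ (y : Γ) w ∈ W := fun y => hY y y.2
  let T : Y ⧸ Z₀ → Module.End (ZMod p) W := fun q => (ρ (q.out : Γ)).restrict (hres q.out)
  let L : Y → Module.End (ZMod p) (Module.End (ZMod p) W) := fun h =>
    { toFun := fun S => (ρ (h : Γ)).restrict (hres h) * S * (ρ ((h⁻¹ : Y) : Γ)).restrict (hres h⁻¹)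
      map_add' := fun u v => by rw [mul_add, add_mul]
      map_smul' := fun c u => by rw [mul_smul_comm, smul_mul_assoc]; rfl }
  let ε : Y ⧸ Z₀ → Y → ZMod p := fun q h =>
    if ∀ w ∈ W, ρ ((h : Γ) * (q.out : Γ) * (h : Γ)⁻¹ * (q.out : Γ)⁻¹) w = w then 1 else -1
  have hε : ∀ q (h : Y), ∀ w ∈ W,
      ρ ((h : Γ) * (q.out : Γ) * (h : Γ)⁻¹ * (q.out : Γ)⁻¹) w = ε q h • w := by
    intro q h w hw
    by_cases hh : ∀ w ∈ W, ρ ((h : Γ) * (q.out : Γ) * (h : Γ)⁻¹ * (q.out : Γ)⁻¹) w = w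
    · simp only [ε, if_pos hh, one_smul]
      exact hh w hw
    · simp only [ε, if_neg hh, neg_smul, one_smul]
      exact ((hc h h.2 q.out q.out.2).resolve_left hh) w hw
  have hLT : ∀ q h, L h (T q) = ε q h • T q := by
    intro q h
    refine LinearMap.ext fun w => Subtype.ext ?_
    show ρ (h : Γ) (ρ (q.out : Γ) (ρ ((h⁻¹ : Y) : Γ) (w : V))) = ε q h • ρ (q.out : Γ) (w : V)
    rw [← hε q h _ (hY _ q.out.2 w w.2), ← rho_mul ρ, ← rho_mul ρ, ← rho_mul ρ]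
    congr 2
    rw [Subgroup.coe_inv]
    group
  have hεdist : ∀ q q' : Y ⧸ Z₀, q ≠ q' → ∃ h, ε q h ≠ ε q' h := by
    intro q q' hqq
    by_contra hcon
    push Not at hcon
    apply hqq
    have hcomm : Scal ρ W ((q.out * q'.out : Y) : Γ) := by
      refine hC₀ _ (q.out * q'.out).2 fun h hh w hw => ?_
      have e1 := hε q ⟨h, hh⟩
      have e2 := hε q' ⟨h, hh⟩
      rw [Subgroup.coe_mul, ← rho_mul ρ, ← rho_mul ρ,
        show h * ((q.out : Γ) * (q'.out : Γ)) = (h * q.out * h⁻¹ * (q.out : Γ)⁻¹) * q.out *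
          ((h * q'.out * h⁻¹ * (q'.out : Γ)⁻¹) * q'.out) * h by group]
      have hu : ρ (h : Γ) w ∈ W := hY h hh w hw
      simp only [rho_mul ρ]
      have hv := hY _ q'.out.2 _ hu
      have e2' := e2 _ hv
      simp only [rho_mul ρ] at e2'
      rw [e2', map_smul]
      have hv' := hY _ q.out.2 _ hv
      have e1' := e1 _ hv'
      simp only [rho_mul ρ] at e1'
      simp only [map_smul]
      rw [e1', ← hcon, smul_smul]
      have : ε q ⟨h, hh⟩ * ε q ⟨h, hh⟩ = 1 := by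
        simp only [ε]
        split_ifs <;> simp
      rw [this, one_smul]
    have h1 := (hmk _).2 hcomm
    rw [QuotientGroup.mk_mul, QuotientGroup.out_eq', QuotientGroup.out_eq'] at h1
    exact mul_left_cancel ((h2 q).trans h1.symm)
  have hli : LinearIndependent (ZMod p) T := by
    rw [linearIndependent_iff']
    intro s c hsum q hq
    have h0 := eq_zero_of_sum L ε s (fun q => c q • T q)
      (fun q' _ h => by rw [map_smul, hLT, smul_comm]) (fun q' _ q'' _ h => hεdist q' q'' h) hsum q hq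
    refine (smul_eq_zero.1 h0).resolve_right fun hT => ?_
    obtain ⟨w, hw, hw0⟩ := Submodule.exists_mem_ne_zero_of_ne_bot hW
    have := congrArg (fun S : Module.End (ZMod p) W => ((S ⟨w, hw⟩ : W) : V)) hT
    exact hw0 (rho_inj ρ _ (this.trans (map_zero _).symm))
  have hcard : Nat.card (Y ⧸ Z₀) ≤ finrank (ZMod p) W * finrank (ZMod p) W := by
    have : Fintype (Y ⧸ Z₀) := Fintype.ofFinite _
    have h := hli.fintype_card_le_finrank
    rwa [Module.finrank_linearMap, ← Nat.card_eq_fintype_card] at h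
  have hnt : (⊤ : Subgroup (Y ⧸ Z₀)) ≠ ⊥ := by
    intro e
    obtain ⟨f, hf, h, hh, hfh⟩ := hne
    have h1 : ((⟨f, hf⟩ : Y) : Y ⧸ Z₀) ∈ (⊥ : Subgroup (Y ⧸ Z₀)) := e ▸ Subgroup.mem_top _
    have h2 : Scal ρ W f := (hmk ⟨f, hf⟩).1 (Subgroup.mem_bot.1 h1)
    refine hneg _ (fun w hw => ?_) hfh
    have hw' := inv_mapsTo ρ (hY h hh) w hw
    rcases h2 with h2 | h2
    · simp only [rho_mul ρ]
      have hi : ρ f⁻¹ (ρ h⁻¹ w) = ρ h⁻¹ w := by
        conv_lhs => rw [← h2 _ hw', rho_inv_apply ρ]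
      rw [hi, rho_apply_inv ρ, h2 w hw]
    · simp only [rho_mul ρ]
      have hi : ρ f⁻¹ (ρ h⁻¹ w) = -ρ h⁻¹ w := by
        have := rho_inv_apply ρ f (ρ h⁻¹ w)
        rw [h2 _ hw', map_neg] at this
        exact neg_eq_iff_eq_neg.1 this
      rw [hi, map_neg, rho_apply_inv ρ, map_neg, h2 w hw, neg_neg]
  refine ⟨hC₀, le_trans ?_ hcard, ?_⟩
  · have := four_pow_le_card (U := ⊤) hbr h2 hr hk hk1 hQfix (fun u _ => Subgroup.mem_top _) hnt
    rwa [Subgroup.card_top] at this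
  intro x hx hxW ⟨j, hj⟩ ⟨f₀, hf₀, hf₀x⟩
  obtain ⟨e, he⟩ := hconj x (hS.conjA x hx) hxW
  have he1 : ∀ (f : Y), e (f : Y ⧸ Z₀) = ((⟨x * f * x⁻¹, hS.conjA x hx f f.2⟩ : Y) : Y ⧸ Z₀) :=
    fun f => by
    have := he 1 f ⟨x * f * x⁻¹, hS.conjA x hx f f.2⟩ (by simp)
    rwa [pow_one] at this
  have hej : e ^ 2 ^ j = 1 := by
    ext q
    induction q using QuotientGroup.induction_on with | _ f => ?_
    rw [MulAut.one_apply]
    exact he _ f f (by simp [hj])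
  have hcomm : ∀ q, e (b q) = b (e q) := by
    intro q
    induction q using QuotientGroup.induction_on with | _ f => ?_
    rw [hb1, he1, he1, hb1]
    have hy₀ := hS.comm_mem x hx
    have e1 : (⟨x * (a * f * a⁻¹) * x⁻¹, hS.conjA x hx _ (hS.conja f f.2)⟩ : Y) =
        ⟨x * a * x⁻¹ * a⁻¹, hy₀⟩ * ⟨a * (x * f * x⁻¹) * a⁻¹, hS.conja _ (hS.conjA x hx f f.2)⟩ *
          (⟨x * a * x⁻¹ * a⁻¹, hy₀⟩ : Y)⁻¹ := Subtype.ext (by simp; group)
    rw [e1, QuotientGroup.mk_mul, QuotientGroup.mk_mul, QuotientGroup.mk_inv,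
      mul_inv_cancel_comm]
  have hmove : ∃ q, e q ≠ q := by
    refine ⟨((⟨f₀, hf₀⟩ : Y) : Y ⧸ Z₀), fun hq => hf₀x ?_⟩
    rw [he1] at hq
    have h1 : ((⟨x * f₀ * x⁻¹, hS.conjA x hx f₀ hf₀⟩ * (⟨f₀, hf₀⟩ : Y)⁻¹ : Y) : Y ⧸ Z₀) = 1 := by
      rw [QuotientGroup.mk_mul, QuotientGroup.mk_inv, hq, mul_inv_cancel]
    exact (hmk _).1 h1
  obtain ⟨hbig, hsmall⟩ := sq_fix_of_small hbr h2 hr hk hk1 hQfix hej hcomm hmove
  refine ⟨hbig.trans hcard, fun h16 f hf => ?_⟩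
  have h := hsmall (hcard.trans h16) ((⟨f, hf⟩ : Y) : Y ⧸ Z₀)
  rw [he1, he1] at h
  have hm : x * x * f * (x * x)⁻¹ ∈ Y := by
    have := hS.conjA x hx _ (hS.conjA x hx f hf)
    rwa [show x * (x * f * x⁻¹) * x⁻¹ = x * x * f * (x * x)⁻¹ by group] at this
  have h1 : (((⟨x * x * f * (x * x)⁻¹, hm⟩ : Y) * (⟨f, hf⟩ : Y)⁻¹ : Y) : Y ⧸ Z₀) = 1 := by
    rw [QuotientGroup.mk_mul, QuotientGroup.mk_inv, mul_inv_eq_one, ← h]
    congr 1
    exact Subtype.ext (by group)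
  exact (hmk _).1 h1

end Cfsg.Agent.FpfAutomizer
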