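/-
An element acting transitively on the nonzero vectors of its commutator space does not exist in a
group of order prime to `r` normalized by a fixed-point-free element of prime order `r`, given the
Hall-Higman-Shult structure of the commutator with that element (owner: helper90).

Main results: `anti_bound`, `exists_block`, `linear_false`.
-/
import Cfsg.Agent.Lib.FpfAutomizer.Block
import Mathlib.GroupTheory.OrderOfElement

set_option autoImplicit false
set_option linter.unusedSectionVars false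

namespace Cfsg.Agent.FpfAutomizer

open Module

variable {p : ℕ} [Fact p.Prime] {V : Type*} [AddCommGroup V] [Module (ZMod p) V] [Finite V]
  {Γ : Type*} [Group Γ] [Finite Γ] (ρ : Γ →* Module.End (ZMod p) V)

/-- The commutator space of `g`. -/
abbrev cspace (g : Γ) : Submodule (ZMod p) V := LinearMap.range (ρ g - 1)

theorem mem_cspace (g : Γ) (v : V) : ρ g v - v ∈ cspace ρ g := ⟨v, rfl⟩

/-- If `y` anticommutes with `h` on `W` then `W` has at most twice the dimension of the commutator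
space of `y`. -/
theorem anti_bound (hp : p ≠ 2) (y h : Γ) (W : Submodule (ZMod p) V)
    (hW : ∀ u ∈ W, ρ h u ∈ W) (hanti : ∀ u ∈ W, ρ y (ρ h u) = -ρ h (ρ y u)) :
    finrank (ZMod p) W ≤ 2 * finrank (ZMod p) (cspace ρ y) := by
  let f : W →ₗ[ZMod p] cspace ρ y :=
    ((ρ y - 1).rangeRestrict).comp W.subtype
  let g : LinearMap.ker f →ₗ[ZMod p] cspace ρ y :=
    ((ρ y - 1).rangeRestrict).comp ((ρ h).comp (W.subtype.comp (LinearMap.ker f).subtype))
  have hg : Function.Injective g := by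
    rw [injective_iff_map_eq_zero]
    intro u hu
    have h1 : ρ y (ρ h ((u : W) : V)) - ρ h ((u : W) : V) = 0 := congrArg Subtype.val hu
    have h2 : ρ y ((u : W) : V) - ((u : W) : V) = 0 := congrArg Subtype.val u.2
    rw [hanti _ (u : W).2, sub_eq_zero.1 h2, sub_eq_zero] at h1
    have h3 := eq_zero_of_neg_eq hp h1
    exact Subtype.ext (Subtype.ext ((rho_inj ρ h) (h3.trans (map_zero _).symm)))
  have h1 := LinearMap.finrank_range_add_finrank_ker f
  have h2 := LinearMap.finrank_le_finrank_of_injective (f := g) hg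
  have h3 := Submodule.finrank_le (LinearMap.range f)
  omega

variable {A Y : Subgroup Γ} {a : Γ} {r k : ℕ} (hρ : Function.Injective ρ) (hp : p ≠ 2)
  (hr : r.Prime) (har : a ^ r = 1) (hfix : ∀ v, ρ a v = v → v = 0) (hS : Special A a Y)

include hρ hp hr har hfix hS in
/-- The block of a common eigenvector on which a central `w` is `-1`. -/
theorem exists_block {w : Γ} (hw : w ∈ Y) (hwc : ∀ h ∈ Y, Commute w h) (hw1 : w ≠ 1) :
    ∃ W : Submodule (ZMod p) V, W ≠ ⊥ ∧ (∀ f ∈ Y, ∀ u ∈ W, ρ f u ∈ W) ∧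
      (∀ u ∈ W, ρ a u ∈ W) ∧ (∀ z ∈ Y, (∀ h ∈ Y, Commute z h) → Scal ρ W z) ∧
      (∀ u ∈ W, ρ w u = -u) ∧
      (∀ g : Γ, (∀ z ∈ Y, (∀ h ∈ Y, Commute z h) → Commute g z) → ∀ u ∈ W, ρ g u ∈ W) ∧
      (∃ f ∈ Y, ∃ h ∈ Y, ∀ u ∈ W, ρ (f * h * f⁻¹ * h⁻¹) u = -u) := by
  let B : Set Γ := {z | z ∈ Y ∧ ∀ h ∈ Y, Commute z h}
  let W₀ : Submodule (ZMod p) V := LinearMap.ker (ρ w + 1)
  have hW₀ : W₀ ≠ ⊥ := by
    obtain ⟨v, hv⟩ := exists_ne_of_ne_one ρ hρ hw1
    intro h
    have hm : ρ w v - v ∈ W₀ := by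
      show ρ w (ρ w v - v) + (ρ w v - v) = 0
      rw [map_sub, ← rho_mul ρ, hS.central_sq w hw hwc, rho_one ρ]
      abel
    rw [h, Submodule.mem_bot, sub_eq_zero] at hm
    exact hv hm
  have hB₀ : ∀ z ∈ B, ∀ u ∈ W₀, ρ z u ∈ W₀ := by
    intro z hz u hu
    have hu' : ρ w u + u = 0 := hu
    show ρ w (ρ z u) + ρ z u = 0
    rw [← rho_mul ρ, (hwc z hz.1).eq, rho_mul ρ, ← map_add, hu', map_zero]
  obtain ⟨v, hv, hv0, hveig⟩ := exists_eigvec ρ B W₀ hW₀ hB₀
    (fun z hz u _ => by rw [← rho_mul ρ, hS.central_sq z hz.1 hz.2, rho_one ρ])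
    (fun z hz z' hz' u _ => by rw [← rho_mul ρ, ← rho_mul ρ, (hz.2 z' hz'.1).eq])
  have hwv : ρ w v = -v := eq_neg_of_add_eq_zero_left hv
  let W : Submodule (ZMod p) V :=
    { carrier := {u | ∀ z ∈ B, (ρ z v = v → ρ z u = u) ∧ (ρ z v = -v → ρ z u = -u)}
      zero_mem' := fun z _ => ⟨fun _ => map_zero _, fun _ => by rw [map_zero, neg_zero]⟩
      add_mem' := fun {u u'} hu hu' z hz =>
        ⟨fun e => by rw [map_add, (hu z hz).1 e, (hu' z hz).1 e],
          fun e => by rw [map_add, (hu z hz).2 e, (hu' z hz).2 e, neg_add]⟩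
      smul_mem' := fun c u hu z hz =>
        ⟨fun e => by rw [map_smul, (hu z hz).1 e],
          fun e => by rw [map_smul, (hu z hz).2 e, smul_neg]⟩ }
  have hpres : ∀ g : Γ, (∀ z ∈ Y, (∀ h ∈ Y, Commute z h) → Commute g z) →
      ∀ u ∈ W, ρ g u ∈ W := by
    intro g hg u hu z hz
    have e : ρ z (ρ g u) = ρ g (ρ z u) := by rw [← rho_mul ρ, ← (hg z hz.1 hz.2).eq, rho_mul ρ]
    exact ⟨fun h => by rw [e, (hu z hz).1 h], fun h => by rw [e, (hu z hz).2 h, map_neg]⟩
  have hW : W ≠ ⊥ := fun h => by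
    have : v ∈ W := fun z _ => ⟨id, id⟩
    rw [h, Submodule.mem_bot] at this
    exact hv0 this
  have hZ : ∀ z ∈ Y, (∀ h ∈ Y, Commute z h) → Scal ρ W z := fun z hz hzc => by
    rcases hveig z ⟨hz, hzc⟩ with h | h
    · exact Or.inl fun u hu => (hu z ⟨hz, hzc⟩).1 h
    · exact Or.inr fun u hu => (hu z ⟨hz, hzc⟩).2 h
  have hwW : ∀ u ∈ W, ρ w u = -u := fun u hu => (hu w ⟨hw, hwc⟩).2 hwv
  refine ⟨W, hW, fun f hf => hpres f fun z _ hzc => (hzc f hf).symm, hpres a fun z hz hzc => ?_,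
    hZ, hwW, hpres, ?_⟩
  · have e := conj_central ρ hρ hp hr har hfix hS hz hzc
    show a * z = z * a
    conv_rhs => rw [← e]
    group
  by_contra hcon
  push Not at hcon
  let K : Subgroup Γ :=
    { carrier := {g | ∀ u ∈ W, ρ g u = u}
      one_mem' := fun u _ => rho_one ρ u
      mul_mem' := fun {g g'} hg hg' u hu => by rw [rho_mul ρ, hg' u hu, hg u hu]
      inv_mem' := fun {g} hg u hu => by conv_lhs => rw [← hg u hu, rho_inv_apply ρ] }
  have hle : Subgroup.closure {t | ∃ f ∈ Y, ∃ g ∈ Y, t = f * g * f⁻¹ * g⁻¹} ≤ K := by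
    rw [Subgroup.closure_le]
    rintro _ ⟨f, hf, g, hg, rfl⟩
    rcases hZ _ (Y.mul_mem (Y.mul_mem (Y.mul_mem hf hg) (Y.inv_mem hf)) (Y.inv_mem hg))
      (hS.comm_central f hf g hg) with h | h
    · exact h
    · obtain ⟨u, hu, hne⟩ := hcon f hf g hg
      exact absurd (h u hu) hne
  have hvW : v ∈ W := fun z _ => ⟨id, id⟩
  have := hle (hS.gen_central w hw hwc) v hvW
  rw [hwW v hvW] at this
  exact hv0 (eq_zero_of_neg_eq hp this)

include hρ hp hr har hfix in
/-- The linear contradiction. -/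
theorem linear_false (hrp : r ≠ p) (hrA : ¬ r ∣ Nat.card A)
    (hHHS : (∀ g ∈ A, Commute a g) ∨
      ∃ (k : ℕ) (Y : Subgroup Γ), r = 2 ^ k + 1 ∧ 1 ≤ k ∧ Special A a Y)
    {x : Γ} (hx : x ∈ A) (hx1 : x ≠ 1)
    (htrans : ∀ u ∈ cspace ρ x, ∀ v ∈ cspace ρ x, u ≠ 0 → v ≠ 0 → ∃ i : ℕ, ρ (x ^ i) u = v) :
    False := by
  classical
  set D := cspace ρ x with hD
  set N := orderOf x with hN
  have hDx : ∀ u ∈ D, ρ x u ∈ D := by
    rintro _ ⟨v, rfl⟩
    exact ⟨ρ x v, by simp⟩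
  have hDpow : ∀ (i : ℕ), ∀ u ∈ D, ρ (x ^ i) u ∈ D := by
    intro i
    induction i with
    | zero => intro u hu; rwa [pow_zero, rho_one ρ]
    | succ i ih => intro u hu; rw [pow_succ', rho_mul ρ]; exact hDx _ (ih u hu)
  have hcsp : ∀ (i : ℕ) (v : V), ρ (x ^ i) v - v ∈ D := by
    intro i v
    induction i with
    | zero => rw [pow_zero, rho_one ρ, sub_self]; exact D.zero_mem
    | succ i ih =>
      have := D.add_mem (mem_cspace ρ x (ρ (x ^ i) v)) ih
      rwa [sub_add_sub_cancel, ← rho_mul ρ, ← pow_succ'] at this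
  -- no fixed vectors in `D`
  have hR1 : ∀ u ∈ D, ρ x u = u → u = 0 := by
    intro u hu hxu
    by_contra hu0
    obtain ⟨i, hi⟩ := htrans u hu (-u) (D.neg_mem hu) hu0 (neg_ne_zero.2 hu0)
    have h : ∀ n : ℕ, ρ (x ^ n) u = u := fun n => by
      induction n with
      | zero => rw [pow_zero, rho_one ρ]
      | succ n ih => rw [pow_succ, rho_mul ρ, hxu, ih]
    rw [h i] at hi
    exact hu0 (eq_zero_of_neg_eq hp hi.symm)
  have hR2 : ∀ i : ℕ, ∀ u ∈ D, u ≠ 0 → ρ (x ^ i) u = u → x ^ i = 1 := by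
    intro i u hu hu0 hfx
    refine eq_of_rho ρ hρ fun v => ?_
    rw [rho_one ρ]
    have hDfix : ∀ u' ∈ D, ρ (x ^ i) u' = u' := by
      intro u' hu'
      by_cases h0 : u' = 0
      · rw [h0, map_zero]
      obtain ⟨j, rfl⟩ := htrans u hu u' hu' hu0 h0
      rw [← rho_mul ρ, pow_mul_comm, rho_mul ρ, hfx]
    have h := hDfix _ (mem_cspace ρ x v)
    rw [map_sub, ← rho_mul ρ, ← pow_succ, pow_succ', rho_mul ρ] at h
    have h1 : ρ x (ρ (x ^ i) v - v) = ρ (x ^ i) v - v := by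
      rw [map_sub]
      exact sub_eq_sub_iff_sub_eq_sub.1 h
    exact sub_eq_zero.1 (hR1 _ (hcsp i v) h1)
  have hDne : ∃ u ∈ D, u ≠ 0 := by
    obtain ⟨v, hv⟩ := exists_ne_of_ne_one ρ hρ hx1
    exact ⟨ρ x v - v, mem_cspace ρ x v, sub_ne_zero.2 hv⟩
  -- the order of `x`
  have hNpos : 0 < N := orderOf_pos x
  have hR3 : ∀ U : Submodule (ZMod p) V, finrank (ZMod p) U = finrank (ZMod p) D →
      Nat.card {u : V // u ∈ U ∧ u ≠ 0} = N := by
    obtain ⟨u₀, hu₀, hu₀0⟩ := hDne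
    let φ : Fin N → {u : V // u ∈ D ∧ u ≠ 0} := fun i =>
      ⟨ρ (x ^ (i : ℕ)) u₀, hDpow i u₀ hu₀,
        fun e => hu₀0 (rho_inj ρ _ (e.trans (map_zero _).symm))⟩
    have hφ : Function.Bijective φ := by
      constructor
      · intro i j hij
        have e : ρ (x ^ (i : ℕ)) u₀ = ρ (x ^ (j : ℕ)) u₀ := congrArg Subtype.val hij
        wlog hle : (i : ℕ) ≤ j generalizing i j
        · exact (this hij.symm e.symm (le_of_not_ge hle)).symm
        have h1 : ρ (x ^ ((j : ℕ) - i)) u₀ = u₀ := by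
          refine rho_inj ρ (x ^ (i : ℕ)) ?_
          rw [← rho_mul ρ, ← pow_add, Nat.add_sub_cancel' hle, e]
        have h2 := orderOf_dvd_of_pow_eq_one (hR2 _ u₀ hu₀ hu₀0 h1)
        have h3 := Nat.eq_zero_of_dvd_of_lt h2 (by omega)
        exact Fin.ext (by omega)
      · rintro ⟨u, hu, hu0⟩
        obtain ⟨i, hi⟩ := htrans u₀ hu₀ u hu hu₀0 hu0
        refine ⟨⟨i % N, Nat.mod_lt _ hNpos⟩, Subtype.ext ?_⟩
        show ρ (x ^ (i % N)) u₀ = u
        rw [hN, pow_mod_orderOf, hi]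
    have hcardD : Nat.card {u : V // u ∈ D ∧ u ≠ 0} = N := by
      rw [← Nat.card_eq_of_bijective φ hφ, Nat.card_fin]
    intro U hU
    have key : ∀ U : Submodule (ZMod p) V,
        Nat.card {u : V // u ∈ U ∧ u ≠ 0} + 1 = Nat.card U := fun U => by
      have : ((U : Set V) \ {0}).ncard + 1 = (U : Set V).ncard :=
        Set.ncard_sdiff_singleton_add_one U.zero_mem (Set.toFinite _)
      rw [← Nat.card_coe_set_eq, ← Nat.card_coe_set_eq] at this
      exact this
    have h1 := key U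
    have h2 := key D
    rw [Module.natCard_eq_pow_finrank (K := ZMod p) (V := U)] at h1
    rw [Module.natCard_eq_pow_finrank (K := ZMod p) (V := D)] at h2
    rw [hU] at h1
    omega
  have hNA : N ∣ Nat.card A := by
    have := orderOf_dvd_natCard (⟨x, hx⟩ : A)
    rwa [Subgroup.orderOf_mk] at this
  -- no conjugate of a nontrivial power of `x` commutes with `a`
  have hR4 : ∀ (e : Γ) (i : ℕ), x ^ i ≠ 1 → Commute a (e * x ^ i * e⁻¹) → False := by
    intro e i hi hc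
    have hsurj : ∀ u ∈ D, ∃ v, ρ (x ^ i) v - v = u := by
      let ψ : D → D := fun u => ⟨ρ (x ^ i) u - u, D.sub_mem (hDpow i u u.2) u.2⟩
      have hψ : Function.Injective ψ := by
        intro u v huv
        by_contra hne
        have e1 : ρ (x ^ i) (u : V) - u = ρ (x ^ i) (v : V) - v := congrArg Subtype.val huv
        refine hi (hR2 i _ (D.sub_mem u.2 v.2) (sub_ne_zero.2 fun h => hne (Subtype.ext h)) ?_)
        rw [map_sub]
        exact sub_eq_sub_iff_sub_eq_sub.1 e1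
      intro u hu
      obtain ⟨v, hv⟩ := Finite.surjective_of_injective hψ ⟨u, hu⟩
      exact ⟨v, congrArg Subtype.val hv⟩
    let D' := D.map (ρ e)
    have hfr : finrank (ZMod p) D' = finrank (ZMod p) D :=
      (Submodule.equivMapOfInjective (ρ e) (rho_inj ρ e) D).finrank_eq.symm
    have haD' : ∀ u ∈ D', ρ a u ∈ D' := by
      rintro _ ⟨u, hu, rfl⟩
      obtain ⟨v, rfl⟩ := hsurj u hu
      refine ⟨ρ (x ^ i) (ρ e⁻¹ (ρ a (ρ e v))) - ρ e⁻¹ (ρ a (ρ e v)), hcsp i _, ?_⟩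
      have h1 : e * x ^ i * e⁻¹ * a * e = a * e * x ^ i := by
        rw [← hc.eq]
        group
      simp only [map_sub, ← rho_mul ρ]
      rw [show e * (x ^ i * (e⁻¹ * (a * e))) = e * x ^ i * e⁻¹ * a * e by group, h1,
        show e * (e⁻¹ * (a * e)) = a * e by group, mul_assoc a e]
    let f : {u : V // u ∈ D' ∧ u ≠ 0} → {u : V // u ∈ D' ∧ u ≠ 0} := fun u =>
      ⟨ρ a u, haD' u u.2.1, fun h => u.2.2 (rho_inj ρ a (h.trans (map_zero _).symm))⟩
    have hf : f^[r] = id := by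
      have h : ∀ n u, ((f^[n] u : {u : V // u ∈ D' ∧ u ≠ 0}) : V) = ρ (a ^ n) u := by
        intro n
        induction n with
        | zero => intro u; rw [pow_zero, rho_one ρ]; rfl
        | succ n ih => intro u; rw [Function.iterate_succ_apply, ih, pow_succ, rho_mul ρ]
      funext u
      apply Subtype.ext
      rw [h, har, rho_one ρ]
      rfl
    have hnd : ¬ r ∣ Nat.card {u : V // u ∈ D' ∧ u ≠ 0} := by
      rw [hR3 D' hfr]
      exact fun h => hrA (h.trans hNA)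
    obtain ⟨⟨u, hu⟩, hu'⟩ := exists_fixed hr hnd f hf
    exact hu.2 (hfix u (congrArg Subtype.val hu'))
  rcases hHHS with hc | ⟨k, Y, hk, hk1, hS⟩
  · exact hR4 1 1 (by rwa [pow_one]) (by rw [pow_one, one_mul, inv_one, mul_one]; exact hc x hx)
  have hr2 : Odd r := ⟨2 ^ (k - 1), by rw [hk, ← pow_succ', Nat.sub_add_cancel hk1]⟩
  obtain ⟨l, hl⟩ : ∃ l, Nat.card Y = 2 ^ l := by
    have := Fact.mk Nat.prime_two
    exact IsPGroup.iff_card.1 hS.twoGroup
  have hdvd2 : ∀ s : ℕ, s.Prime → s ≠ 2 → ¬ s ∣ Nat.card Y := fun s hs hs2 h => by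
    rw [hl] at h
    exact hs2 ((Nat.prime_dvd_prime_iff_eq hs Nat.prime_two).1 (hs.dvd_of_dvd_pow h))
  -- the order of `x` is a power of two
  have hL1 : ∀ s : ℕ, s.Prime → s ∣ N → s = 2 := by
    intro s hs hsN
    by_contra hs2
    obtain ⟨n, hn⟩ := hsN
    set y := x ^ n with hy
    have hys : y ^ s = 1 := by rw [hy, ← pow_mul, mul_comm, ← hn, hN, pow_orderOf_eq_one]
    have hyA : y ∈ A := A.pow_mem hx n
    have hyY : ∀ z ∈ Y, y⁻¹ * (a * (y * z) * a⁻¹) ∈ Y := fun z hz => by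
      have := Y.mul_mem (hS.comm_mem _ (A.inv_mem hyA)) (hS.conja z hz)
      rwa [show y⁻¹ * a * y⁻¹⁻¹ * a⁻¹ * (a * z * a⁻¹) = y⁻¹ * (a * (y * z) * a⁻¹) by group] at this
    let f : Y → Y := fun z => ⟨y⁻¹ * (a * (y * z) * a⁻¹), hyY z z.2⟩
    have hfit : ∀ m (z : Y), ((f^[m] z : Y) : Γ) = y⁻¹ * (a ^ m * (y * z) * (a ^ m)⁻¹) := by
      intro m
      induction m with
      | zero => intro z; simp
      | succ m ih =>
        intro z
        rw [Function.iterate_succ_apply, ih]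
        show y⁻¹ * (a ^ m * (y * (y⁻¹ * (a * (y * z) * a⁻¹))) * (a ^ m)⁻¹) = _
        rw [pow_succ]
        group
    obtain ⟨z, hz⟩ := exists_fixed hr (hdvd2 r hr (fun h => by rw [h] at hr2; exact Nat.not_odd_iff_even.2 even_two hr2)) f
      (by funext z; apply Subtype.ext; rw [hfit, har]; simp)
    set c := y * (z : Γ) with hcdef
    have hca : Commute a c := by
      have e : y⁻¹ * (a * (y * z) * a⁻¹) = (z : Γ) := congrArg Subtype.val hz
      show a * c = c * a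
      calc a * c = y * (y⁻¹ * (a * (y * z) * a⁻¹)) * a := by rw [hcdef]; group
        _ = c * a := by rw [e]
    have hyN : ∀ w ∈ Y, y⁻¹ * w * y ∈ Y := fun w hw => by
      have := hS.conjA _ (A.inv_mem hyA) w hw
      rwa [inv_inv] at this
    have hcoset : ∀ m : ℕ, ∃ w ∈ Y, c ^ m = y ^ m * w := by
      intro m
      induction m with
      | zero => exact ⟨1, Y.one_mem, by simp⟩
      | succ m ih =>
        obtain ⟨w, hw, e⟩ := ih
        refine ⟨y⁻¹ * w * y * z, Y.mul_mem (hyN w hw) z.2, ?_⟩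
        rw [pow_succ, e, pow_succ, hcdef]
        group
    obtain ⟨w, hw, hcs⟩ := hcoset s
    rw [hys, one_mul] at hcs
    obtain ⟨i, hi⟩ := hS.twoGroup ⟨w, hw⟩
    have hi' : w ^ 2 ^ i = 1 := congrArg Subtype.val hi
    obtain ⟨w', hw', hct⟩ := hcoset (2 ^ i)
    set t := c ^ 2 ^ i with ht
    set y' := y ^ 2 ^ i with hy'
    have hts : t ^ s = 1 := by rw [ht, ← pow_mul, mul_comm, pow_mul, hcs, hi']
    have hys' : y' ^ s = 1 := by rw [hy', ← pow_mul, mul_comm, pow_mul, hys, one_pow]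
    have hy'A : y' ∈ A := A.pow_mem hyA _
    have hgY : ∀ z ∈ Y, y' * z * t⁻¹ ∈ Y := fun z hz => by
      rw [hct, show y' * z * (y' * w')⁻¹ = y' * (z * w'⁻¹) * y'⁻¹ by group]
      exact hS.conjA _ hy'A _ (Y.mul_mem hz (Y.inv_mem hw'))
    let g : Y → Y := fun z => ⟨y' * z * t⁻¹, hgY z z.2⟩
    have hgit : ∀ m (z : Y), ((g^[m] z : Y) : Γ) = y' ^ m * z * (t ^ m)⁻¹ := by
      intro m
      induction m with
      | zero => intro z; simp
      | succ m ih =>
        intro z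
        rw [Function.iterate_succ_apply, ih]
        show y' ^ m * (y' * z * t⁻¹) * (t ^ m)⁻¹ = _
        rw [pow_succ, pow_succ' t]
        group
    obtain ⟨z₁, hz₁⟩ := exists_fixed hs (hdvd2 s hs hs2) g
      (by funext z; apply Subtype.ext; rw [hgit, hys', hts]; simp)
    have e : y' * (z₁ : Γ) * t⁻¹ = z₁ := congrArg Subtype.val hz₁
    have hy'x : y' = x ^ (n * 2 ^ i) := by rw [hy', hy, ← pow_mul]
    have htconj : t = (z₁ : Γ)⁻¹ * y' * ((z₁ : Γ)⁻¹)⁻¹ := by
      calc t = (z₁ : Γ)⁻¹ * (y' * (z₁ : Γ) * t⁻¹) * t := by rw [e]; group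
        _ = _ := by group
    refine hR4 (z₁ : Γ)⁻¹ (n * 2 ^ i) (fun h1 => ?_) ?_
    · have hd : N ∣ n * 2 ^ i := orderOf_dvd_of_pow_eq_one h1
      rw [hn, mul_comm s n] at hd
      have hn0 : 0 < n := by
        rcases Nat.eq_zero_or_pos n with h | h
        · rw [h, mul_zero] at hn; omega
        · exact h
      have := Nat.dvd_of_mul_dvd_mul_left hn0 hd
      exact hs2 ((Nat.prime_dvd_prime_iff_eq hs Nat.prime_two).1 (hs.dvd_of_dvd_pow this))
    · rw [← hy'x, ← htconj, ht]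
      exact hca.pow_right _
  obtain ⟨c₂, hc₂⟩ : ∃ c₂, N = 2 ^ c₂ :=
    ⟨_, Nat.eq_prime_pow_of_unique_prime_dvd hNpos.ne' fun {d} hd hd' => hL1 d hd hd'⟩
  set m := finrank (ZMod p) D with hm
  have hpm : p ^ m = N + 1 := by
    have h1 := hR3 D rfl
    have h2 : ((D : Set V) \ {0}).ncard + 1 = (D : Set V).ncard :=
      Set.ncard_sdiff_singleton_add_one D.zero_mem (Set.toFinite _)
    rw [← Nat.card_coe_set_eq, ← Nat.card_coe_set_eq] at h2
    have h3 : Nat.card (D : Set V) = p ^ m := by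
      show Nat.card D = _
      rw [Module.natCard_eq_pow_finrank (K := ZMod p), Nat.card_zmod]
    rw [h3] at h2
    rw [← h2]
    exact congrArg (· + 1) h1
  have hm0 : m ≠ 0 := fun h => by
    rw [h, pow_zero] at hpm
    omega
  have hm12 : m = 1 ∨ (m = 2 ∧ 2 ≤ k) := by
    rcases eq_one_or_nine Fact.out hp hm0 (hc₂ ▸ hpm) with h | ⟨h3, h2⟩
    · exact Or.inl h
    · refine Or.inr ⟨h2, ?_⟩
      by_contra hlt
      have hk' : k = 1 := by omega
      rw [hk'] at hk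
      omega
  have h4k : 4 ≤ 4 ^ k :=
    le_trans (le_of_eq (pow_one 4).symm) (Nat.pow_le_pow_right (by norm_num) hk1)
  have h16k : 2 ≤ k → 16 ≤ 4 ^ k := fun h2 =>
    le_trans (by norm_num : 16 ≤ 4 ^ 2) (Nat.pow_le_pow_right (by norm_num) h2)
  -- `x` centralizes the centre
  have hG1 : ∀ z ∈ Y, (∀ h ∈ Y, Commute z h) → Commute x z := by
    intro z hz hzc
    by_contra hne
    have hz' : x * z * x⁻¹ ∈ Y := hS.conjA x hx z hz
    have hz'c : ∀ h ∈ Y, Commute (x * z * x⁻¹) h := by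
      intro h hh
      have hh' : x⁻¹ * h * x ∈ Y := by
        have := hS.conjA _ (A.inv_mem hx) h hh
        rwa [inv_inv] at this
      show x * z * x⁻¹ * h = h * (x * z * x⁻¹)
      calc x * z * x⁻¹ * h = x * (z * (x⁻¹ * h * x)) * x⁻¹ := by group
        _ = h * (x * z * x⁻¹) := by rw [(hzc _ hh').eq]; group
    set w := x * z * x⁻¹ * z⁻¹ with hwdef
    obtain ⟨W, hW, hY, haW, hZ, hwW, -, hne'⟩ := exists_block ρ hρ hp hr har hfix hS
      (w := w) (Y.mul_mem hz' (Y.inv_mem hz))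
      (fun h hh => (hz'c h hh).mul_left (hzc h hh).inv_left)
      (fun h => hne (mul_inv_eq_iff_eq_mul.1 (mul_inv_eq_one.1 h)))
    have hdim : finrank (ZMod p) W ≤ m := by
      let φ : W →ₗ[ZMod p] D := ((ρ x - 1).rangeRestrict).comp W.subtype
      refine LinearMap.finrank_le_finrank_of_injective (f := φ) ?_
      rw [injective_iff_map_eq_zero]
      intro u hu
      have hxu : ρ x (u : V) = u := sub_eq_zero.1 (congrArg Subtype.val hu)
      have hxiu : ρ x⁻¹ (u : V) = u := by conv_lhs => rw [← hxu, rho_inv_apply ρ]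
      have hw' := hwW u u.2
      rcases hZ z hz hzc with h | h
      · have hzi : ρ z⁻¹ (u : V) = u := by conv_lhs => rw [← h u u.2, rho_inv_apply ρ]
        rw [hwdef] at hw'
        simp only [rho_mul ρ, hzi, hxiu, h u u.2, hxu] at hw'
        exact Subtype.ext (eq_zero_of_neg_eq hp hw'.symm)
      · have hzi : ρ z⁻¹ (u : V) = -u := by
          have := rho_inv_apply ρ z (u : V)
          rw [h u u.2, map_neg] at this
          exact neg_eq_iff_eq_neg.1 this
        rw [hwdef] at hw'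
        simp only [rho_mul ρ, hzi, map_neg, hxiu, h u u.2, hxu, neg_neg] at hw'
        exact Subtype.ext (eq_zero_of_neg_eq hp hw'.symm)
    have hb := (block ρ hρ hp hr har hfix hS hk hk1 W hW hY haW hZ hne').2.1
    have := Nat.mul_le_mul hdim hdim
    rcases hm12 with h | ⟨h, h2⟩
    · rw [h] at this; omega
    · rw [h] at this
      have := h16k h2
      omega
  have hxinv : ∀ f ∈ Y, x⁻¹ * f * x ∈ Y := fun f hf => by
    have := hS.conjA _ (A.inv_mem hx) f hf
    rwa [inv_inv] at this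
  have hcY : ∀ f ∈ Y, x * f * x⁻¹ * f⁻¹ ∈ Y := fun f hf =>
    Y.mul_mem (hS.conjA x hx f hf) (Y.inv_mem hf)
  have hxj : ∃ j, x ^ 2 ^ j = 1 := ⟨c₂, by rw [← hc₂, hN, pow_orderOf_eq_one]⟩
  -- `x` centralizes `Y` modulo the centre
  have hG2 : ∀ f ∈ Y, ∀ h ∈ Y, Commute (x * f * x⁻¹ * f⁻¹) h := by
    intro f hf h hh
    by_contra hne
    set g := x * f * x⁻¹ * f⁻¹ with hg
    obtain ⟨W, hW, hY, haW, hZ, hwW, hpres, hne'⟩ := exists_block ρ hρ hp hr har hfix hS
      (w := g * h * g⁻¹ * h⁻¹)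
      (Y.mul_mem (Y.mul_mem (Y.mul_mem (hcY f hf) hh) (Y.inv_mem (hcY f hf))) (Y.inv_mem hh))
      (hS.comm_central g (hcY f hf) h hh)
      (fun e => hne (mul_inv_eq_iff_eq_mul.1 (mul_inv_eq_one.1 e)))
    have hxW := hpres x fun z hz hzc => hG1 z hz hzc
    have hanti : ∀ u ∈ W, ρ g (ρ h u) = -ρ h (ρ g u) := fun u hu => by
      have hgu := hY h hh _ (hY g (hcY f hf) u hu)
      rw [← hwW _ hgu, ← rho_mul ρ, ← rho_mul ρ, ← rho_mul ρ]
      congr 2
      group
    have hgS : ¬ Scal ρ W g := fun hs => by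
      obtain ⟨u, hu, hu0⟩ := Submodule.exists_mem_ne_zero_of_ne_bot hW
      have h1 := hanti u hu
      rcases hs with hs | hs
      · rw [hs _ (hY h hh u hu), hs u hu] at h1
        exact hu0 (rho_inj ρ h ((eq_zero_of_neg_eq hp h1.symm).trans (map_zero _).symm))
      · rw [hs _ (hY h hh u hu), hs u hu, map_neg, neg_neg] at h1
        exact hu0 (rho_inj ρ h ((eq_zero_of_neg_eq hp h1).trans (map_zero _).symm))
    have hrank : finrank (ZMod p) (cspace ρ g) ≤ 2 * m := by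
      have hle : cspace ρ g ≤ D ⊔ D.map (ρ (x * f)) := by
        rintro _ ⟨v, rfl⟩
        have e : (ρ g - 1) v = (ρ x v - v) +
            ρ (x * f) (ρ x⁻¹ (ρ f⁻¹ v) - ρ f⁻¹ v) := by
          show ρ g v - v = _
          rw [map_sub, hg]
          simp only [rho_mul ρ, rho_apply_inv ρ]
          abel
        rw [e]
        refine Submodule.add_mem_sup (mem_cspace ρ x v) (Submodule.mem_map_of_mem ?_)
        have := D.neg_mem (mem_cspace ρ x (ρ x⁻¹ (ρ f⁻¹ v)))
        rwa [rho_apply_inv ρ, neg_sub] at this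
      have h1 := Submodule.finrank_mono hle
      have h2 := Submodule.finrank_add_le_finrank_add_finrank D (D.map (ρ (x * f)))
      have h3 := Submodule.finrank_map_le (ρ (x * f)) D
      omega
    have hd : finrank (ZMod p) W ≤ 4 * m :=
      (anti_bound ρ hp g h W (fun u hu => hY h hh u hu) hanti).trans (by omega)
    obtain ⟨-, -, hb⟩ := block ρ hρ hp hr har hfix hS hk hk1 W hW hY haW hZ hne'
    obtain ⟨hb1, hb2⟩ := hb x hx hxW hxj ⟨f, hf, hgS⟩
    have hdd := Nat.mul_le_mul hd hd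
    rcases hm12 with h1 | ⟨h1, h2⟩
    swap
    · rw [h1] at hdd
      have : 4 ^ 4 ≤ 4 ^ (2 * k) := Nat.pow_le_pow_right (by norm_num) (by omega)
      omega
    rw [h1] at hdd
    have hk' : k = 1 := by
      by_contra hk'
      have : 4 ^ 4 ≤ 4 ^ (2 * k) := Nat.pow_le_pow_right (by norm_num) (by omega)
      omega
    have hr3 : r = 3 := by rw [hk, hk']; norm_num
    have hp5 : 5 ≤ p := by
      have h2 := (Fact.out : p.Prime).two_le
      have : p ≠ 4 := fun h => by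
        have h4 : (4 : ℕ).Prime := h ▸ (Fact.out : p.Prime)
        norm_num at h4
      omega
    have hN4 : 4 ≤ N := by rw [h1, pow_one] at hpm; omega
    have hx2 : x ^ 2 ≠ 1 := fun h => by
      have := Nat.le_of_dvd two_pos (orderOf_dvd_of_pow_eq_one h)
      omega
    have h44 : 16 ≤ finrank (ZMod p) W * finrank (ZMod p) W := by
      rw [hk'] at hb1
      exact hb1
    have hall := hb2 (by omega)
    by_cases hneg : ∃ f' ∈ Y, ∀ u ∈ W, ρ (x * x * f' * (x * x)⁻¹ * f'⁻¹) u = -u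
    · obtain ⟨f', hf', hf'u⟩ := hneg
      have hanti' : ∀ u ∈ W, ρ (x * x) (ρ f' u) = -ρ f' (ρ (x * x) u) := fun u hu => by
        have hxx : ρ (x * x) u ∈ W := by rw [rho_mul ρ]; exact hxW _ (hxW u hu)
        rw [← hf'u _ (hY f' hf' _ hxx), ← rho_mul ρ, ← rho_mul ρ, ← rho_mul ρ]
        congr 2
        group
      have h2 := anti_bound ρ hp (x * x) f' W (hY f' hf') hanti'
      have h3 : finrank (ZMod p) (cspace ρ (x * x)) ≤ m := Submodule.finrank_mono (by
        rintro _ ⟨v, rfl⟩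
        have := hcsp 2 v
        rwa [pow_two] at this)
      have h4 := Nat.mul_le_mul (show finrank (ZMod p) W ≤ 2 by omega)
        (show finrank (ZMod p) W ≤ 2 by omega)
      omega
    push Not at hneg
    have hcomm : ∀ f' ∈ Y, ∀ u ∈ W, ρ (x * x) (ρ f' u) = ρ f' (ρ (x * x) u) := by
      intro f' hf' u hu
      rcases hall f' hf' with h' | h'
      · have hxx : ρ (x * x) u ∈ W := by rw [rho_mul ρ]; exact hxW _ (hxW u hu)
        rw [← h' _ (hY f' hf' _ hxx), ← rho_mul ρ, ← rho_mul ρ, ← rho_mul ρ]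
        congr 2
        group
      · obtain ⟨u', hu', hne''⟩ := hneg f' hf'
        exact absurd (h' u' hu') hne''
    obtain ⟨u₀, hu₀, hu₀x⟩ : ∃ u ∈ W, ρ x u ≠ u := by
      by_contra hcon
      push Not at hcon
      refine hgS (Or.inl fun u hu => ?_)
      have hxi : ∀ u ∈ W, ρ x⁻¹ u = u := fun u hu => by
        conv_lhs => rw [← hcon u hu, rho_inv_apply ρ]
      rw [hg]
      simp only [rho_mul ρ]
      rw [hxi _ (hY _ (Y.inv_mem hf) u hu), rho_apply_inv ρ, hcon u hu]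
    set u₁ := ρ x u₀ - u₀ with hu₁
    have hu₁W : u₁ ∈ W := W.sub_mem (hxW u₀ hu₀) hu₀
    have hu₁D : u₁ ∈ D := mem_cspace ρ x u₀
    have hu₁0 : u₁ ≠ 0 := sub_ne_zero.2 hu₀x
    set u₂ := ρ (x ^ 2) u₁ - u₁ with hu₂
    have hu₂0 : u₂ ≠ 0 := sub_ne_zero.2 fun h => hx2 (hR2 2 u₁ hu₁D hu₁0 h)
    have hline : ∀ f' ∈ Y, ∃ l : ZMod p, ρ f' u₂ = l • u₂ := by
      intro f' hf'
      have hmem : ρ f' u₂ ∈ D := by
        rw [hu₂, map_sub, pow_two, ← hcomm f' hf' u₁ hu₁W, ← pow_two]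
        exact hcsp 2 _
      obtain ⟨⟨e₀, he₀⟩, -, hspan⟩ := finrank_eq_one_iff'.1 (hm.symm.trans h1)
      obtain ⟨s, hs⟩ := hspan ⟨u₂, hcsp 2 u₁⟩
      obtain ⟨s', hs'⟩ := hspan ⟨_, hmem⟩
      have hs1 : s • e₀ = u₂ := congrArg Subtype.val hs
      have hs1' : s' • e₀ = ρ f' u₂ := congrArg Subtype.val hs'
      have hs0 : s ≠ 0 := fun h => hu₂0 (by rw [← hs1, h, zero_smul])
      exact ⟨s' * s⁻¹, by rw [← hs1', ← hs1, smul_smul, mul_assoc, inv_mul_cancel₀ hs0, mul_one]⟩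
    obtain ⟨f', hf', h', hh', hfh⟩ := hne'
    obtain ⟨l, hlf⟩ := hline f' hf'
    obtain ⟨l', hlh⟩ := hline h' hh'
    have hu₂W : u₂ ∈ W := by
      refine W.sub_mem ?_ hu₁W
      rw [pow_two, rho_mul ρ]
      exact hxW _ (hxW _ hu₁W)
    have e1 := hfh (ρ (h' * f') u₂) (hY _ (Y.mul_mem hh' hf') _ hu₂W)
    rw [← rho_mul ρ, show f' * h' * f'⁻¹ * h'⁻¹ * (h' * f') = f' * h' by group, rho_mul ρ,
      rho_mul ρ, hlf, hlh, map_smul, map_smul, hlf, hlh, smul_smul, smul_smul, mul_comm l' l] at e1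
    have hz : (l * l') • u₂ = 0 := eq_zero_of_neg_eq hp e1.symm
    have : ρ (f' * h') u₂ = 0 := by
      rw [rho_mul ρ, hlh, map_smul, hlf, smul_smul, mul_comm, hz]
    exact hu₂0 (rho_inj ρ _ (this.trans (map_zero _).symm))
  -- transport of a central correction
  have hkill : ∀ (y c : Γ), c ∈ Y → (∀ h ∈ Y, Commute c h) → a * y * a⁻¹ = y * c → Commute a y := by
    intro y c hcY hcc he
    have hpow : ∀ n : ℕ, a ^ n * y * (a ^ n)⁻¹ = y * c ^ n := by
      intro n
      induction n with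
      | zero => simp
      | succ n ih =>
        have hca : a * c * a⁻¹ = c := conj_central ρ hρ hp hr har hfix hS hcY hcc
        calc a ^ (n + 1) * y * (a ^ (n + 1))⁻¹ = a * (a ^ n * y * (a ^ n)⁻¹) * a⁻¹ := by
              rw [pow_succ']; group
          _ = (a * y * a⁻¹) * (a * c * a⁻¹) ^ n := by rw [ih, conj_pow]; group
          _ = y * c ^ (n + 1) := by rw [he, hca, pow_succ', mul_assoc]
    have h1 := hpow r
    rw [har, one_mul, inv_one, mul_one] at h1
    have hcr : c ^ r = 1 := mul_eq_left.1 h1.symm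
    obtain ⟨j, hj⟩ := hr2
    have hc1 : c = 1 := by
      rwa [hj, pow_succ, pow_mul, pow_two, hS.central_sq c hcY hcc, one_pow, one_mul] at hcr
    rw [hc1, mul_one] at he
    exact mul_inv_eq_iff_eq_mul.1 he
  have hy0 : x⁻¹ * a * x * a⁻¹ ∈ Y := by
    have := hS.comm_mem _ (A.inv_mem hx)
    rwa [inv_inv] at this
  set y₀ := x⁻¹ * a * x * a⁻¹ with hy₀
  by_cases hN2 : x ^ 2 = 1
  · have hle : N ≤ 2 := Nat.le_of_dvd two_pos (orderOf_dvd_of_pow_eq_one hN2)
    have hN1 : N ≠ 1 := fun h => hx1 (orderOf_eq_one_iff.1 h)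
    have hpm3 : p ^ m = 3 := by omega
    have hp3 : p = 3 :=
      (Nat.prime_dvd_prime_iff_eq Fact.out Nat.prime_three).1 (hpm3 ▸ dvd_pow_self p hm0)
    have hm1 : m = 1 := by
      rw [hp3] at hpm3
      exact Nat.pow_right_injective (le_refl 2 |>.trans (by norm_num)) (hpm3.trans (pow_one 3).symm)
    have hk2 : 2 ≤ k := by
      by_contra hlt
      rw [show k = 1 by omega] at hk
      omega
    by_cases hxY : ∀ f ∈ Y, Commute x f
    · refine hR4 1 1 (by rwa [pow_one]) ?_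
      rw [pow_one, one_mul, inv_one, mul_one]
      refine hkill x y₀ hy0 (fun h hh => ?_) (by rw [hy₀]; group)
      obtain ⟨h', hh''⟩ := Finite.surjective_of_injective
        (f := fun y : Y => (⟨a * y * a⁻¹, hS.conja y y.2⟩ : Y))
        (fun u v e => Subtype.ext (mul_left_cancel (mul_right_cancel (congrArg Subtype.val e))))
        ⟨h, hh⟩
      have e : a * (h' : Γ) * a⁻¹ = h := congrArg Subtype.val hh''
      show x⁻¹ * a * x * a⁻¹ * h = h * (x⁻¹ * a * x * a⁻¹)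
      calc x⁻¹ * a * x * a⁻¹ * h = x⁻¹ * a * (x * (h' : Γ)) * a⁻¹ := by rw [← e]; group
        _ = x⁻¹ * (a * (h' : Γ) * a⁻¹) * a * x * a⁻¹ := by rw [(hxY h' h'.2).eq]; group
        _ = (x⁻¹ * h) * (a * x * a⁻¹) := by rw [e]; group
        _ = h * (x⁻¹ * a * x * a⁻¹) := by
          rw [(Commute.inv_left (hxY h hh)).eq]; group
    push Not at hxY
    obtain ⟨f, hf, hfx⟩ := hxY
    obtain ⟨W, hW, hY, haW, hZ, hwW, hpres, hne'⟩ := exists_block ρ hρ hp hr har hfix hS
      (w := x * f * x⁻¹ * f⁻¹) (hcY f hf) (hG2 f hf)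
      (fun e => hfx (mul_inv_eq_iff_eq_mul.1 (mul_inv_eq_one.1 e)))
    have hxW := hpres x fun z hz hzc => hG1 z hz hzc
    have hanti : ∀ u ∈ W, ρ x (ρ f u) = -ρ f (ρ x u) := fun u hu => by
      rw [← hwW _ (hY f hf _ (hxW u hu)), ← rho_mul ρ, ← rho_mul ρ, ← rho_mul ρ]
      congr 2
      group
    have hd : finrank (ZMod p) W ≤ 2 := by
      have := anti_bound ρ hp x f W (hY f hf) hanti
      rw [← hD, ← hm, hm1] at this
      omega
    have hb := (block ρ hρ hp hr har hfix hS hk hk1 W hW hY haW hZ hne').2.1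
    have := Nat.mul_le_mul hd hd
    have := h16k hk2
    omega
  · have hsqY : ∀ f ∈ Y, Commute (x * x) f := by
      intro f hf
      set g := x * f * x⁻¹ * f⁻¹ with hg
      have hgx : x * g * x⁻¹ = g := by
        rw [(hG1 g (hcY f hf) (hG2 f hf)).eq]; group
      have hgg : g * g = 1 := hS.central_sq g (hcY f hf) (hG2 f hf)
      have e : x * x * f * (x * x)⁻¹ = f := by
        calc x * x * f * (x * x)⁻¹ = (x * g * x⁻¹) * (x * f * x⁻¹) := by rw [hg]; group
          _ = g * (g * f) := by rw [hgx, hg]; group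
          _ = f := by rw [← mul_assoc, hgg, one_mul]
      exact mul_inv_eq_iff_eq_mul.1 e
    refine hR4 1 2 hN2 ?_
    rw [pow_two, one_mul, inv_one, mul_one]
    refine hkill (x * x) (x⁻¹ * y₀ * x * y₀) (Y.mul_mem (hxinv _ hy0) hy0) (fun h hh => ?_)
      (by rw [hy₀]; group)
    set g := x * (x⁻¹ * y₀ * x) * x⁻¹ * (x⁻¹ * y₀ * x)⁻¹ with hg
    have e : x⁻¹ * y₀ * x * y₀ = g⁻¹ * (y₀ * y₀) := by rw [hg]; group
    rw [e]
    exact (hG2 _ (hxinv _ hy0) h hh).inv_left.mul_left (hS.sq_mem y₀ hy0 h hh)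

end Cfsg.Agent.FpfAutomizer
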