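/-
The Hall-Higman-Shult theorem in the form used for fixed-point-free automorphisms, and the action of
an automorphism group on an elementary abelian group as a representation (owner: helper90).

Main results: `ShultFor`, `shult_cases`, `toEnd`.
-/
import Cfsg.Agent.Lib.FpfAutomizer.Common
import Mathlib.RepresentationTheory.Basic
import Mathlib.GroupTheory.Commutator.Basic

set_option autoImplicit false
set_option linter.unusedSectionVars false

namespace Cfsg.Agent.FpfAutomizer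

open scoped commutatorElement

universe u v

/-- The statement of the Hall-Higman-Shult theorem over the prime field, taken as a hypothesis. -/
def ShultFor : Prop :=
  ∀ (X : Type u) [Group X] [Finite X] (G R : Subgroup X) [G.Normal] (_ : G ⊔ R = ⊤) (r : ℕ)
    (_ : r.Prime) (_ : Nat.card R = r) (_ : ¬ r ∣ Nat.card G) (p : ℕ) [Fact p.Prime]
    (V : Type v) [AddCommGroup V] [Module (ZMod p) V] [Finite V] [Nontrivial V]
    (ρ : Representation (ZMod p) X V) (_ : Function.Injective ρ)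
    (_ : ∀ W : Submodule (ZMod p) V, (∀ x : X, W.map (ρ x) ≤ W) → W = ⊥ ∨ W = ⊤)
    (_ : ∀ w : V, (∀ x ∈ R, ρ x w = w) → w = 0),
    ⁅G, R⁆ = ⊥ ∨ ((∃ m : ℕ, r = 2 ^ m + 1) ∧ Cfsg.IsSpecial 2 ↥⁅G, R⁆)

/-- Either `a` centralizes `A`, or the commutator with `a` has the special structure. -/
theorem shult_cases (hH : ShultFor.{u, v}) {p : ℕ} [Fact p.Prime] (hp : p ≠ 2) {V : Type v}
    [AddCommGroup V] [Module (ZMod p) V] [Finite V] [Nontrivial V] {Γ : Type u} [Group Γ] [Finite Γ]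
    (ρ : Γ →* Module.End (ZMod p) V) (hρ : Function.Injective ρ) (A : Subgroup Γ) (a : Γ)
    (hnA : ∀ g ∈ A, a * g * a⁻¹ ∈ A) {r : ℕ} (hr : r.Prime) (har : a ^ r = 1)
    (hfix : ∀ v, ρ a v = v → v = 0) (hrA : ¬ r ∣ Nat.card A)
    (hirr : ∀ W : Submodule (ZMod p) V, (∀ g ∈ A, ∀ w ∈ W, ρ g w ∈ W) →
      (∀ w ∈ W, ρ a w ∈ W) → W = ⊥ ∨ W = ⊤) :
    (∀ g ∈ A, Commute a g) ∨
      ∃ (k : ℕ) (Y : Subgroup Γ), r = 2 ^ k + 1 ∧ 1 ≤ k ∧ Special A a Y := by
  have := Fact.mk hr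
  rcases eq_or_ne r 2 with rfl | hr2
  · left
    have hneg : ∀ v, ρ a v = -v := fun v => by
      refine eq_neg_of_add_eq_zero_left (hfix _ ?_)
      rw [map_add, ← rho_mul ρ, ← pow_two, har, rho_one ρ, add_comm]
    exact fun g _ => eq_of_rho ρ hρ fun v => by
      rw [rho_mul ρ, rho_mul ρ, hneg, hneg, map_neg]
  have ha1 : a ≠ 1 := fun h => by
    obtain ⟨v, hv⟩ := exists_ne (0 : V)
    exact hv (hfix v (by rw [h, rho_one ρ]))
  have hpow : ∀ n : ℕ, ∀ g ∈ A, a ^ n * g * (a ^ n)⁻¹ ∈ A := by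
    intro n
    induction n with
    | zero => simp
    | succ n ih =>
      intro g hg
      have := hnA _ (ih g hg)
      rwa [pow_succ', mul_inv_rev, show a * a ^ n * g * ((a ^ n)⁻¹ * a⁻¹) =
        a * (a ^ n * g * (a ^ n)⁻¹) * a⁻¹ by group]
  set B := Subgroup.zpowers a with hBdef
  set X := A ⊔ B with hXdef
  have haN : a ∈ Subgroup.normalizer (A : Set Γ) := Subgroup.mem_normalizer_fintype fun n hn => hnA n hn
  have hGn : (A.subgroupOf X).Normal := Subgroup.normal_subgroupOf_of_le_normalizer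
    (sup_le Subgroup.le_normalizer (Subgroup.zpowers_le.2 haN))
  have hAX : A ≤ X := le_sup_left
  have hBX : B ≤ X := le_sup_right
  have htop : A.subgroupOf X ⊔ B.subgroupOf X = ⊤ := by
    rw [← Subgroup.subgroupOf_sup hAX hBX, Subgroup.subgroupOf_self]
  have hcardR : Nat.card (B.subgroupOf X) = r := by
    rw [Nat.card_congr (Subgroup.subgroupOfEquivOfLe hBX).toEquiv, hBdef, Nat.card_zpowers,
      orderOf_eq_prime har ha1]
  have hcardG : ¬ r ∣ Nat.card (A.subgroupOf X) := by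
    rwa [Nat.card_congr (Subgroup.subgroupOfEquivOfLe hAX).toEquiv]
  have hmain := hH X (A.subgroupOf X) (B.subgroupOf X) htop r hr hcardR hcardG p V
    (ρ.comp X.subtype) (hρ.comp Subtype.val_injective)
    (fun W hW => hirr W
      (fun g hg w hw => hW ⟨g, hAX hg⟩ (Submodule.mem_map_of_mem hw))
      (fun w hw => hW ⟨a, hBX (Subgroup.mem_zpowers a)⟩ (Submodule.mem_map_of_mem hw)))
    (fun w hw => hfix w (hw ⟨a, hBX (Subgroup.mem_zpowers a)⟩ (Subgroup.mem_zpowers a)))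
  rcases hmain with hbot | ⟨⟨k, hk⟩, hsp⟩
  · left
    intro g hg
    have h1 : ⁅(⟨g, hAX hg⟩ : X), (⟨a, hBX (Subgroup.mem_zpowers a)⟩ : X)⁆ ∈
        ⁅A.subgroupOf X, B.subgroupOf X⁆ :=
      Subgroup.commutator_mem_commutator hg (Subgroup.mem_zpowers a)
    rw [hbot, Subgroup.mem_bot] at h1
    have h2 : g * a * g⁻¹ * a⁻¹ = 1 := congrArg Subtype.val h1
    exact (mul_inv_eq_iff_eq_mul.1 (mul_inv_eq_one.1 h2)).symm
  right
  have hk1 : 1 ≤ k := by
    rcases Nat.eq_zero_or_pos k with rfl | h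
    · exact absurd (by simpa using hk) hr2
    · exact h
  set Y₀ := ⁅A.subgroupOf X, B.subgroupOf X⁆ with hY₀
  set Y := ⁅A, B⁆ with hYdef
  have hmap : Y₀.map X.subtype = Y := by
    rw [hY₀, Subgroup.map_commutator, Subgroup.map_subgroupOf_eq_of_le hAX,
      Subgroup.map_subgroupOf_eq_of_le hBX]
  have hlift : ∀ y ∈ Y, ∃ y₀ ∈ Y₀, (y₀ : Γ) = y := fun y hy => by
    rw [← hmap] at hy
    obtain ⟨y₀, hy₀, e⟩ := hy
    exact ⟨y₀, hy₀, e⟩
  obtain ⟨hP, hsq, hcc, hcs, hgc⟩ := special_of_isSpecial hsp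
  have hle : Y ≤ A := by
    rintro y hy
    obtain ⟨y₀, hy₀, rfl⟩ := hlift y hy
    exact (Subgroup.commutator_le_left (A.subgroupOf X) (B.subgroupOf X)) hy₀
  have hnorm : ∀ g ∈ X, ∀ y ∈ Y, g * y * g⁻¹ ∈ Y := by
    intro g hg y hy
    have hXN : X ≤ Subgroup.normalizer (Y : Set Γ) :=
      sup_le (Subgroup.normalizer_commutator_ge_left A B) (Subgroup.normalizer_commutator_ge_right A B)
    exact (Subgroup.mem_normalizer_iff.1 (hXN hg) y).1 hy
  refine ⟨k, Y, hk, hk1, hle, fun g hg => hnorm g (hAX hg), hnorm a (hBX (Subgroup.mem_zpowers a)),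
    fun g hg => Subgroup.commutator_mem_commutator hg (Subgroup.mem_zpowers a), ?_, ?_, ?_, ?_, ?_,
    ?_⟩
  · have hY₁ : ∀ g ∈ A, g * a * g⁻¹ * a⁻¹ ∈
        Subgroup.closure {t | ∃ y ∈ Y, t = y * a * y⁻¹ * a⁻¹} := by
      intro g hg
      have hgY : ∀ z ∈ Y, g⁻¹ * (a * (g * z) * a⁻¹) ∈ Y := fun z hz => by
        have h1 : g⁻¹ * a * g⁻¹⁻¹ * a⁻¹ ∈ Y :=
          Subgroup.commutator_mem_commutator (A.inv_mem hg) (Subgroup.mem_zpowers a)
        have := Y.mul_mem h1 (hnorm a (hBX (Subgroup.mem_zpowers a)) z hz)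
        rwa [show g⁻¹ * a * g⁻¹⁻¹ * a⁻¹ * (a * z * a⁻¹) = g⁻¹ * (a * (g * z) * a⁻¹) by group] at this
      let f : Y → Y := fun z => ⟨g⁻¹ * (a * (g * z) * a⁻¹), hgY z z.2⟩
      have hfit : ∀ m (z : Y), ((f^[m] z : Y) : Γ) = g⁻¹ * (a ^ m * (g * z) * (a ^ m)⁻¹) := by
        intro m
        induction m with
        | zero => intro z; simp
        | succ m ih =>
          intro z
          rw [Function.iterate_succ_apply, ih]
          show g⁻¹ * (a ^ m * (g * (g⁻¹ * (a * (g * z) * a⁻¹))) * (a ^ m)⁻¹) = _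
          rw [pow_succ]
          group
      obtain ⟨z, hz⟩ := exists_fixed hr
        (fun h => hrA (h.trans (Subgroup.card_dvd_of_le hle))) f
        (by funext z; apply Subtype.ext; rw [hfit, har]; simp)
      have e : g⁻¹ * (a * (g * z) * a⁻¹) = (z : Γ) := congrArg Subtype.val hz
      have hc : a * (g * z) = g * z * a := by
        calc a * (g * z) = g * (g⁻¹ * (a * (g * z) * a⁻¹)) * a := by group
          _ = g * z * a := by rw [e]
      refine Subgroup.subset_closure ⟨(g * z) * (z : Γ)⁻¹ * (g * z)⁻¹,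
        hnorm _ (X.mul_mem (hAX hg) (hAX (hle z.2))) _ (Y.inv_mem z.2), ?_⟩
      calc g * a * g⁻¹ * a⁻¹ = (g * z) * (z : Γ)⁻¹ * a * (z : Γ) * (g * z)⁻¹ * a⁻¹ := by group
        _ = (g * z) * (z : Γ)⁻¹ * ((g * z)⁻¹ * (g * z * a)) * (z : Γ) * (g * z)⁻¹ * a⁻¹ := by group
        _ = (g * z) * (z : Γ)⁻¹ * (g * z)⁻¹ * a * ((g * z) * (z : Γ)⁻¹ * (g * z)⁻¹)⁻¹ * a⁻¹ := by
          rw [← hc]; group
    refine le_antisymm ?_ ?_
    · rw [hYdef, Subgroup.commutator_le]
      intro g hg b hb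
      obtain ⟨n, rfl⟩ := mem_powers_iff_mem_zpowers.2 hb
      show ⁅g, a ^ n⁆ ∈ _
      induction n with
      | zero => rw [pow_zero, commutatorElement_one_right]; exact one_mem _
      | succ n ih =>
        have e : ⁅g, a ^ (n + 1)⁆ = ⁅g, a ^ n⁆ *
            ((a ^ n * g * (a ^ n)⁻¹) * a * (a ^ n * g * (a ^ n)⁻¹)⁻¹ * a⁻¹) := by
          rw [commutatorElement_def, commutatorElement_def, pow_succ]
          group
        rw [e]
        exact mul_mem (ih (mem_powers_iff_mem_zpowers.1 ⟨n, rfl⟩)) (hY₁ _ (hpow n g hg))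
    · rw [Subgroup.closure_le]
      rintro _ ⟨y, hy, rfl⟩
      exact Subgroup.commutator_mem_commutator (hle hy) (Subgroup.mem_zpowers a)
  · exact (hP.of_equiv (Y₀.equivMapOfInjective X.subtype Subtype.val_injective)).of_equiv
      (MulEquiv.subgroupCongr hmap)
  · intro y hy h hh
    obtain ⟨y₀, hy₀, rfl⟩ := hlift y hy
    obtain ⟨h₀, hh₀, rfl⟩ := hlift h hh
    exact congrArg Subtype.val (hsq y₀ hy₀ h₀ hh₀).eq
  · intro f hf g hg h hh
    obtain ⟨f₀, hf₀, rfl⟩ := hlift f hf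
    obtain ⟨g₀, hg₀, rfl⟩ := hlift g hg
    obtain ⟨h₀, hh₀, rfl⟩ := hlift h hh
    exact congrArg Subtype.val (hcc f₀ hf₀ g₀ hg₀ h₀ hh₀).eq
  · intro z hz hzc
    obtain ⟨z₀, hz₀, rfl⟩ := hlift z hz
    exact congrArg Subtype.val (hcs z₀ hz₀ fun h hh =>
      Subtype.ext (hzc h (hmap ▸ Subgroup.mem_map_of_mem _ hh)).eq)
  · intro z hz hzc
    obtain ⟨z₀, hz₀, rfl⟩ := hlift z hz
    have h1 := Subgroup.mem_map_of_mem X.subtype (hgc z₀ hz₀ fun h hh =>
      Subtype.ext (hzc h (hmap ▸ Subgroup.mem_map_of_mem _ hh)).eq)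
    rw [MonoidHom.map_closure] at h1
    refine Subgroup.closure_mono ?_ h1
    rintro _ ⟨_, ⟨f, hf, g, hg, rfl⟩, rfl⟩
    exact ⟨f, hmap ▸ Subgroup.mem_map_of_mem _ hf, g, hmap ▸ Subgroup.mem_map_of_mem _ hg, rfl⟩

/-- Automorphisms of an abelian group of exponent `p` as linear maps. -/
def toEnd {p : ℕ} (T : Type u) [CommGroup T] [Module (ZMod p) (Additive T)] :
    MulAut T →* Module.End (ZMod p) (Additive T) where
  toFun e := AddMonoidHom.toZModLinearMap p (MonoidHom.toAdditive e.toMonoidHom)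
  map_one' := LinearMap.ext fun _ => rfl
  map_mul' _ _ := LinearMap.ext fun _ => rfl

theorem toEnd_apply {p : ℕ} {T : Type u} [CommGroup T] [Module (ZMod p) (Additive T)]
    (e : MulAut T) (t : T) : toEnd (p := p) T e (Additive.ofMul t) = Additive.ofMul (e t) := rfl

theorem toEnd_injective {p : ℕ} (T : Type u) [CommGroup T] [Module (ZMod p) (Additive T)] :
    Function.Injective (toEnd (p := p) T) := fun e f h =>
  MulEquiv.ext fun t => Additive.ofMul.injective (LinearMap.congr_fun h (Additive.ofMul t))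

end Cfsg.Agent.FpfAutomizer
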