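/-
In an automorphism group of a `p`-group of order prime to `r`, normalized by a fixed-point-free
automorphism of prime order `r`, an invariant Sylow `p`-subgroup on which that automorphism has no
nontrivial fixed points is normal (owner: helper90).

Main results: `exists_minimal_elementary`, `pow_eq_one_of_fpf`, `maximal_normal`.
-/
import Cfsg.Agent.Lib.FpfAutomizer.Shult
import Mathlib.GroupTheory.PGroup
import Mathlib.GroupTheory.QuotientGroup.Basic

set_option autoImplicit false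
set_option linter.unusedSectionVars false

namespace Cfsg.Agent.FpfAutomizer

universe u

open scoped commutatorElement

/-- A nontrivial `p`-group acted on by `A` and `a` has a minimal invariant central subgroup of
exponent `p`. -/
theorem exists_minimal_elementary {p : ℕ} [hp : Fact p.Prime] {R : Type u} [Group R] [Finite R]
    (hR : IsPGroup p R) [Nontrivial R] {Γ : Type u} [Group Γ] (φ : Γ →* MulAut R) (S : Set Γ) :
    ∃ T : Subgroup R, T ≠ ⊥ ∧ T ≤ Subgroup.center R ∧ (∀ t ∈ T, t ^ p = 1) ∧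
      (∀ g ∈ S, ∀ t ∈ T, φ g t ∈ T) ∧
      ∀ U : Subgroup R, U ≤ T → (∀ g ∈ S, ∀ t ∈ U, φ g t ∈ U) → U = ⊥ ∨ U = T := by
  let T₀ : Subgroup R :=
    { carrier := {z | z ∈ Subgroup.center R ∧ z ^ p = 1}
      one_mem' := ⟨one_mem _, one_pow p⟩
      mul_mem' := fun {x y} hx hy => ⟨mul_mem hx.1 hy.1, by
        rw [(show Commute x y from (Subgroup.mem_center_iff.1 hy.1 x)).mul_pow, hx.2, hy.2, one_mul]⟩
      inv_mem' := fun {x} hx => ⟨inv_mem hx.1, by rw [inv_pow, hx.2, inv_one]⟩ }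
  have hinv : ∀ (e : MulAut R), ∀ t ∈ T₀, e t ∈ T₀ := by
    intro e t ht
    refine ⟨Subgroup.mem_center_iff.2 fun y => ?_, by rw [← map_pow, ht.2, map_one]⟩
    apply e.symm.injective
    rw [map_mul, map_mul, MulEquiv.symm_apply_apply]
    exact Subgroup.mem_center_iff.1 ht.1 _
  have hne : T₀ ≠ ⊥ := by
    have hZ : Nontrivial (Subgroup.center R) := hR.center_nontrivial
    obtain ⟨n, hn, hcard⟩ := (hR.to_subgroup (Subgroup.center R)).nontrivial_iff_card.1 hZ
    obtain ⟨z, hz⟩ := exists_prime_orderOf_dvd_card' (G := Subgroup.center R) p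
      (hcard ▸ dvd_pow_self p hn.ne')
    intro h
    have hm : (z : R) ∈ T₀ := ⟨z.2, by
      rw [← hz, ← Subgroup.orderOf_coe, pow_orderOf_eq_one]⟩
    rw [h, Subgroup.mem_bot] at hm
    have : z = 1 := Subtype.ext hm
    rw [this, orderOf_one] at hz
    exact hp.out.ne_one hz.symm
  obtain ⟨T, hTle, hTmin⟩ := Finite.exists_le_minimal (α := Subgroup R)
    (p := fun T => T ≠ ⊥ ∧ T ≤ T₀ ∧ ∀ g ∈ S, ∀ t ∈ T, φ g t ∈ T) (a := T₀)
    ⟨hne, le_rfl, fun g _ => hinv (φ g)⟩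
  obtain ⟨h1, h2, h3⟩ := hTmin.prop
  refine ⟨T, h1, fun t ht => (h2 ht).1, fun t ht => (h2 ht).2, h3, fun U hU hUinv => ?_⟩
  rcases eq_or_ne U ⊥ with h | h
  · exact Or.inl h
  · exact Or.inr (le_antisymm hU (hTmin.2 ⟨h, hU.trans h2, hUinv⟩ hU))

variable {p : ℕ} [Fact p.Prime] {Γ : Type u} [Group Γ] [Finite Γ] {A P : Subgroup Γ} {a : Γ} {r : ℕ}

/-- The normal closure of `P` in `A` acts on the `p`-group `R` by `p`-elements. -/
theorem pow_eq_one_of_fpf (hH : ShultFor.{u, u}) (hp : p ≠ 2) (hr : r.Prime) (hrp : r ≠ p)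
    (har : a ^ r = 1) (hnA : ∀ g ∈ A, a * g * a⁻¹ ∈ A) (hrA : ¬ r ∣ Nat.card A) (hPA : P ≤ A)
    (hP : IsPGroup p P) (hPa : ∀ g ∈ P, a * g * a⁻¹ ∈ P)
    (hPfix : ∀ g ∈ P, a * g * a⁻¹ = g → g = 1) (hgen : A ⊔ Subgroup.zpowers a = ⊤) :
    ∀ (m : ℕ) (R : Type u) [Group R] [Finite R], Nat.card R = m → IsPGroup p R →
      ∀ φ : Γ →* MulAut R, (∀ x, φ a x = x → x = 1) →
        ∀ n ∈ Subgroup.closure {t | ∃ g ∈ A, ∃ h ∈ P, t = g * h * g⁻¹},
          ∃ j : ℕ, φ n ^ p ^ j = 1 := by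
  intro m
  induction m using Nat.strong_induction_on with
  | _ m ih =>
  intro R _ _ hm hR φ hfpf n hn
  rcases subsingleton_or_nontrivial R with hsub | hnt
  · exact ⟨0, MulEquiv.ext fun x => Subsingleton.elim _ _⟩
  obtain ⟨T, hT, hTc, hTp, hTinv, hTmin⟩ :=
    exists_minimal_elementary hR φ ((A : Set Γ) ∪ {a})
  let N : Subgroup Γ :=
    { carrier := {g | ∀ t, t ∈ T ↔ φ g t ∈ T}
      one_mem' := fun t => by rw [map_one]; rfl
      mul_mem' := fun {g h} hg hh t => by rw [map_mul, MulAut.mul_apply, hh t, hg]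
      inv_mem' := fun {g} hg t => by
        rw [hg (φ g⁻¹ t), ← MulAut.mul_apply, ← map_mul, mul_inv_cancel, map_one]; rfl }
  have hmemN : ∀ g ∈ (A : Set Γ) ∪ {a}, g ∈ N := fun g hg t => by
    refine ⟨hTinv g hg t, fun h => ?_⟩
    obtain ⟨u, hu⟩ := Finite.surjective_of_injective
      (f := fun t : T => (⟨φ g t, hTinv g hg t t.2⟩ : T))
      (fun u v e => Subtype.ext ((φ g).injective (congrArg Subtype.val e))) ⟨φ g t, h⟩
    have : φ g (u : R) = φ g t := congrArg Subtype.val hu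
    exact (φ g).injective this ▸ u.2
  have hTn : T.Normal := ⟨fun t ht g => by
    rwa [show g * t * g⁻¹ = t by
      rw [Subgroup.mem_center_iff.1 (hTc ht) g, mul_inv_cancel_right]]⟩
  letI : CommGroup T :=
    { (inferInstance : Group T) with
      mul_comm := fun s t => Subtype.ext ((Subgroup.mem_center_iff.1 (hTc t.2) (s : R))) }
  letI : Module (ZMod p) (Additive T) := AddCommGroup.zmodModule fun t => by
    apply Additive.toMul.injective
    rw [toMul_nsmul]
    exact Subtype.ext (hTp _ (Additive.toMul t).2)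
  have : Nontrivial T := T.nontrivial_iff_ne_bot.2 hT
  have : Nontrivial (Additive T) := Additive.ofMul.nontrivial
  -- the action on `T`
  let φT : N →* MulAut T :=
    { toFun := fun g =>
        { toFun := fun t => ⟨φ g t, (g.2 t).1 t.2⟩
          invFun := fun t => ⟨φ (g : Γ)⁻¹ t, ((N.inv_mem g.2) t).1 t.2⟩
          left_inv := fun t => Subtype.ext (by
            show φ (g : Γ)⁻¹ (φ g t) = t
            rw [← MulAut.mul_apply, ← map_mul, inv_mul_cancel, map_one]; rfl)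
          right_inv := fun t => Subtype.ext (by
            show φ g (φ (g : Γ)⁻¹ t) = t
            rw [← MulAut.mul_apply, ← map_mul, mul_inv_cancel, map_one]; rfl)
          map_mul' := fun s t => Subtype.ext (by simp) }
      map_one' := MulEquiv.ext fun t => Subtype.ext (by simp)
      map_mul' := fun g h => MulEquiv.ext fun t => Subtype.ext (by simp) }
  have hAN : A ≤ N := fun g hg => hmemN g (Or.inl hg)
  have haN : a ∈ N := hmemN a (Or.inr rfl)
  let A' : Subgroup (MulAut T) := (A.subgroupOf N).map φT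
  let a' : MulAut T := φT ⟨a, haN⟩
  have hnA' : ∀ g ∈ A', a' * g * a'⁻¹ ∈ A' := by
    rintro _ ⟨g, hg, rfl⟩
    exact ⟨⟨a, haN⟩ * g * ⟨a, haN⟩⁻¹, hnA g hg, by rw [map_mul, map_mul, map_inv]⟩
  have har' : a' ^ r = 1 := by
    rw [← map_pow, show (⟨a, haN⟩ : N) ^ r = 1 from Subtype.ext har, map_one]
  have hrA' : ¬ r ∣ Nat.card A' := fun h => hrA (h.trans ((Subgroup.card_map_dvd _ _).trans
    (dvd_of_eq (Nat.card_congr (Subgroup.subgroupOfEquivOfLe hAN).toEquiv))))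
  have hx : Module (ZMod p) (Additive T) := inferInstance
  let ρT : MulAut T →* Module.End (ZMod p) (Additive T) := toEnd T
  have hfix' : ∀ v : Additive T, ρT a' v = v → v = 0 := by
    intro v hv
    have h1 : a' (Additive.toMul v) = Additive.toMul v := congrArg Additive.toMul hv
    apply Additive.toMul.injective
    exact Subtype.ext (hfpf _ (congrArg Subtype.val h1))
  have hirr' : ∀ W : Submodule (ZMod p) (Additive T),
      (∀ g ∈ A', ∀ w ∈ W, ρT g w ∈ W) → (∀ w ∈ W, ρT a' w ∈ W) →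
      W = ⊥ ∨ W = ⊤ := by
    intro W hWA hWa
    let U : Subgroup R := (AddSubgroup.toSubgroup' W.toAddSubgroup).map T.subtype
    have hU : ∀ g ∈ (A : Set Γ) ∪ {a}, ∀ t ∈ U, φ g t ∈ U := by
      rintro g hg _ ⟨t, ht, rfl⟩
      rcases hg with hg | rfl
      · exact ⟨φT ⟨g, hAN hg⟩ t, hWA (φT ⟨g, hAN hg⟩) ⟨⟨g, hAN hg⟩, hg, rfl⟩ (Additive.ofMul t) ht,
          rfl⟩
      · exact ⟨a' t, hWa (Additive.ofMul t) ht, rfl⟩
    rcases hTmin U (Subgroup.map_subtype_le _) hU with h | h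
    · refine Or.inl ((Submodule.eq_bot_iff _).2 fun w hw => ?_)
      have hm : ((Additive.toMul w : T) : R) ∈ U := ⟨Additive.toMul w, hw, rfl⟩
      rw [h, Subgroup.mem_bot] at hm
      exact Additive.toMul.injective (Subtype.ext hm)
    · refine Or.inr (eq_top_iff.2 fun w _ => ?_)
      have hm : ((Additive.toMul w : T) : R) ∈ U := by rw [h]; exact (Additive.toMul w : T).2
      obtain ⟨t, ht, e⟩ := hm
      have e' : t = Additive.toMul w := Subtype.ext e
      rw [e'] at ht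
      exact ht
  -- `P` acts trivially on `T`
  have hPT : ∀ g ∈ P, ∀ t ∈ T, φ g t = t := by
    intro g hg t ht
    -- every element of `P` is a commutator with `a`
    obtain ⟨h, hh⟩ := Finite.surjective_of_injective
      (f := fun g : P => (⟨(g : Γ)⁻¹ * (a * g * a⁻¹), P.mul_mem (P.inv_mem g.2) (hPa g g.2)⟩ : P))
      (fun u v e => by
        have e1 : (u : Γ)⁻¹ * (a * u * a⁻¹) = (v : Γ)⁻¹ * (a * v * a⁻¹) := congrArg Subtype.val e
        refine Subtype.ext (mul_inv_eq_one.1 (hPfix _ (P.mul_mem v.2 (P.inv_mem u.2)) ?_)).symm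
        calc a * ((v : Γ) * (u : Γ)⁻¹) * a⁻¹
            = (v : Γ) * ((v : Γ)⁻¹ * (a * v * a⁻¹)) * (a * u * a⁻¹)⁻¹ := by group
          _ = (v : Γ) * (u : Γ)⁻¹ := by rw [← e1]; group) ⟨g, hg⟩
    have hgc : (h : Γ)⁻¹ * a * h * a⁻¹ = g :=
      (show (h : Γ)⁻¹ * a * h * a⁻¹ = (h : Γ)⁻¹ * (a * h * a⁻¹) by group).trans
        (congrArg Subtype.val hh)
    set h' : N := ⟨h, hAN (hPA h.2)⟩
    have hh'A : φT h' ∈ A' := ⟨h', hPA h.2, rfl⟩
    have hgimg : φT ⟨g, hAN (hPA hg)⟩ = (φT h')⁻¹ * a' * φT h' * a'⁻¹ := by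
      rw [← map_inv, ← map_mul, ← map_mul, ← map_inv, ← map_mul]
      exact congrArg φT (Subtype.ext hgc.symm)
    suffices hg1 : φT ⟨g, hAN (hPA hg)⟩ = 1 by
      have := congrArg (fun e : MulAut T => ((e ⟨t, ht⟩ : T) : R)) hg1
      exact this
    rcases shult_cases hH hp ρT (toEnd_injective T) A' a' hnA' hr har' hfix' hrA'
      hirr' with hc | ⟨k, Y, -, -, hS⟩
    · rw [hgimg, mul_assoc _ a', (hc _ hh'A).eq]
      group
    · have hY : φT ⟨g, hAN (hPA hg)⟩ ∈ Y := by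
        have := hS.comm_mem _ (A'.inv_mem hh'A)
        rw [inv_inv] at this
        rwa [hgimg]
      obtain ⟨i, hi⟩ := hS.twoGroup ⟨_, hY⟩
      obtain ⟨j, hj⟩ := hP ⟨g, hg⟩
      have hi' : φT ⟨g, hAN (hPA hg)⟩ ^ 2 ^ i = 1 := congrArg Subtype.val hi
      have hj' : φT ⟨g, hAN (hPA hg)⟩ ^ p ^ j = 1 := by
        rw [← map_pow, show (⟨g, hAN (hPA hg)⟩ : N) ^ p ^ j = 1 from
          Subtype.ext (by simpa using congrArg (Subtype.val : P → Γ) hj), map_one]
      have h2 : Nat.Coprime (2 ^ i) (p ^ j) :=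
        Nat.Coprime.pow i j ((Nat.coprime_primes Nat.prime_two Fact.out).2 (Ne.symm hp))
      have := pow_gcd_eq_one.2 ⟨hi', hj'⟩
      rwa [h2, pow_one] at this
  let K : Subgroup Γ :=
    { carrier := {g | (∀ t ∈ T, φ g t = t)}
      one_mem' := fun t _ => by rw [map_one]; rfl
      mul_mem' := fun {g h} hg hh t ht => by rw [map_mul, MulAut.mul_apply, hh t ht, hg t ht]
      inv_mem' := fun {g} hg t ht => by
        conv_lhs => rw [← hg t ht, ← MulAut.mul_apply, ← map_mul, inv_mul_cancel, map_one]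
        rfl }
  have hnK : n ∈ K := by
    refine (Subgroup.closure_le K).2 ?_ hn
    rintro _ ⟨g, hg, h, hh, rfl⟩ t ht
    have htg : φ g⁻¹ t ∈ T := ((N.inv_mem (hAN hg)) t).1 ht
    rw [map_mul, map_mul, MulAut.mul_apply, MulAut.mul_apply, hPT h hh _ htg, ← MulAut.mul_apply,
      ← map_mul, mul_inv_cancel, map_one]
    rfl
  have hAall : ∀ g ∈ N, ∀ t ∈ T, φ g t ∈ T := fun g hg t ht => (hg t).1 ht
  -- induction on the quotient
  have hall : ∀ g : Γ, g ∈ N := fun g =>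
    sup_le hAN (Subgroup.zpowers_le.2 haN) (hgen.symm ▸ Subgroup.mem_top g)
  let ψ : Γ →* MulAut (R ⧸ T) :=
    MonoidHom.mk' (fun g => QuotientGroup.congr T T (φ g) (by
      apply le_antisymm
      · rintro _ ⟨t, ht, rfl⟩
        exact hAall g (hall g) t ht
      · intro t ht
        exact ⟨φ g⁻¹ t, hAall _ (hall g⁻¹) t ht, by
          show φ g (φ g⁻¹ t) = t
          rw [← MulAut.mul_apply, ← map_mul, mul_inv_cancel, map_one]; rfl⟩))
      (fun g h => MulEquiv.ext fun q => by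
        induction q using QuotientGroup.induction_on with | _ x => ?_
        simp)
  have hcard : Nat.card (R ⧸ T) < m := by
    rw [← hm, Subgroup.card_eq_card_quotient_mul_card_subgroup T]
    exact lt_mul_of_one_lt_right Nat.card_pos ((Subgroup.one_lt_card_iff_ne_bot T).2 hT)
  have hTr : ¬ r ∣ Nat.card T := fun h => by
    obtain ⟨i, hi⟩ := IsPGroup.iff_card.1 (hR.to_subgroup T)
    exact hrp ((Nat.prime_dvd_prime_iff_eq hr Fact.out).1 (hr.dvd_of_dvd_pow (hi ▸ h)))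
  have hfq : ∀ q, ψ a q = q → q = 1 := by
    intro q hq
    induction q using QuotientGroup.induction_on with | _ x => ?_
    have hx : x⁻¹ * φ a x ∈ T := QuotientGroup.eq.1 (Eq.symm hq)
    have hcoset : ∀ t ∈ T, x⁻¹ * φ a (x * t) ∈ T := fun t ht => by
      rw [map_mul, ← mul_assoc]
      exact T.mul_mem hx (hTinv a (Or.inr rfl) t ht)
    let f : T → T := fun t => ⟨x⁻¹ * φ a (x * t), hcoset t t.2⟩
    have hfit : ∀ i (t : T), ((f^[i] t : T) : R) = x⁻¹ * (φ (a ^ i)) (x * t) := by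
      intro i
      induction i with
      | zero => intro t; simp
      | succ i ih =>
        intro t
        rw [Function.iterate_succ_apply, ih]
        show x⁻¹ * φ (a ^ i) (x * (x⁻¹ * φ a (x * t))) = _
        rw [mul_inv_cancel_left, ← MulAut.mul_apply, ← map_mul, ← pow_succ]
    obtain ⟨t, ht⟩ := exists_fixed hr hTr f (by
      funext t; apply Subtype.ext; rw [hfit, har, map_one, MulAut.one_apply]; simp)
    have e : x⁻¹ * φ a (x * t) = (t : R) := congrArg Subtype.val ht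
    have h1 : x * t = 1 := hfpf _ (inv_mul_eq_iff_eq_mul.1 e)
    rw [QuotientGroup.eq_one_iff, eq_inv_of_mul_eq_one_left h1]
    exact T.inv_mem t.2
  have hn' : n ∈ N := by
    refine (Subgroup.closure_le N).2 ?_ hn
    rintro _ ⟨g, hg, h, hh, rfl⟩
    exact N.mul_mem (N.mul_mem (hAN hg) (hAN (hPA hh))) (N.inv_mem (hAN hg))
  obtain ⟨j, hj⟩ := ih _ hcard (R ⧸ T) rfl (hR.to_quotient T) ψ hfq n hn
  refine ⟨j + 1, MulEquiv.ext fun x => ?_⟩
  set e := φ n ^ p ^ j with he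
  have het : ∀ t ∈ T, e t = t := fun t ht => by
    rw [he, ← map_pow]
    exact (K.pow_mem hnK (p ^ j)) t ht
  have hex : x⁻¹ * e x ∈ T := by
    have h1 : ψ (n ^ p ^ j) (x : R ⧸ T) = (x : R ⧸ T) := by rw [map_pow, hj]; rfl
    have h2 : ((φ (n ^ p ^ j) x : R) : R ⧸ T) = (x : R ⧸ T) := h1
    rw [map_pow] at h2
    exact QuotientGroup.eq.1 h2.symm
  have hiter : ∀ i : ℕ, (e ^ i) x = x * (x⁻¹ * e x) ^ i := by
    intro i
    induction i with
    | zero => simp
    | succ i ih =>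
      rw [pow_succ', MulAut.mul_apply, ih, map_mul, map_pow, het _ hex, pow_succ', ← mul_assoc,
        mul_inv_cancel_left]
  rw [pow_succ, pow_mul, ← he, hiter, hTp _ hex, mul_one, MulAut.one_apply]

/-- A maximal `p`-subgroup as above is normal. -/
theorem maximal_normal (hH : ShultFor.{u, u}) (hp : p ≠ 2) (hr : r.Prime) (hrp : r ≠ p)
    (har : a ^ r = 1) (hnA : ∀ g ∈ A, a * g * a⁻¹ ∈ A) (hrA : ¬ r ∣ Nat.card A) (hPA : P ≤ A)
    (hP : IsPGroup p P) (hPa : ∀ g ∈ P, a * g * a⁻¹ ∈ P)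
    (hPfix : ∀ g ∈ P, a * g * a⁻¹ = g → g = 1)
    (hPmax : ∀ Q : Subgroup Γ, Q ≤ A → IsPGroup p Q → P ≤ Q → Q = P)
    (R : Type u) [Group R] [Finite R] (hR : IsPGroup p R) (φ : Γ →* MulAut R)
    (hφ : Function.Injective φ) (hfpf : ∀ x, φ a x = x → x = 1) :
    ∀ g ∈ A, ∀ h ∈ P, g * h * g⁻¹ ∈ P := by
  set X := A ⊔ Subgroup.zpowers a with hX
  have hAX : A ≤ X := le_sup_left
  have haX : a ∈ X := (le_sup_right : Subgroup.zpowers a ≤ X) (Subgroup.mem_zpowers a)
  have hgen : A.subgroupOf X ⊔ Subgroup.zpowers (⟨a, haX⟩ : X) = ⊤ := by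
    apply Subgroup.map_injective X.subtype_injective
    rw [Subgroup.map_sup, Subgroup.map_subgroupOf_eq_of_le hAX, MonoidHom.map_zpowers,
      ← MonoidHom.range_eq_map, Subgroup.range_subtype]
    rfl
  have key := pow_eq_one_of_fpf (A := A.subgroupOf X) (P := P.subgroupOf X) (a := ⟨a, haX⟩) hH hp hr
    hrp (Subtype.ext har) (fun g hg => hnA g hg)
    (by rwa [Nat.card_congr (Subgroup.subgroupOfEquivOfLe hAX).toEquiv])
    (fun g hg => hPA hg)
    (hP.of_equiv (Subgroup.subgroupOfEquivOfLe (hPA.trans hAX)).symm) (fun g hg => hPa g hg)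
    (fun g hg e => Subtype.ext (hPfix g hg (congrArg Subtype.val e))) hgen _ R rfl hR
    (φ.comp X.subtype) hfpf
  have key' : ∀ m ∈ Subgroup.closure {t | ∃ g ∈ A, ∃ h ∈ P, t = g * h * g⁻¹},
      ∃ j : ℕ, φ m ^ p ^ j = 1 := by
    intro m hm
    have h1 : m ∈ (Subgroup.closure {t : X | ∃ g ∈ A.subgroupOf X, ∃ h ∈ P.subgroupOf X,
        t = g * h * g⁻¹}).map X.subtype := by
      rw [MonoidHom.map_closure]
      refine Subgroup.closure_mono ?_ hm
      rintro _ ⟨g, hg, h, hh, rfl⟩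
      exact ⟨⟨g, hAX hg⟩ * ⟨h, hAX (hPA hh)⟩ * ⟨g, hAX hg⟩⁻¹,
        ⟨⟨g, hAX hg⟩, hg, ⟨h, hAX (hPA hh)⟩, hh, rfl⟩, rfl⟩
    obtain ⟨m', hm', rfl⟩ := h1
    exact key m' hm'
  set M := Subgroup.closure {t | ∃ g ∈ A, ∃ h ∈ P, t = g * h * g⁻¹} with hM
  have hMA : M ≤ A := (Subgroup.closure_le A).2 fun _ ⟨g, hg, h, hh, e⟩ =>
    e ▸ A.mul_mem (A.mul_mem hg (hPA hh)) (A.inv_mem hg)
  have hMp : IsPGroup p M := fun m => by
    obtain ⟨j, hj⟩ := key' m m.2
    exact ⟨j, Subtype.ext (hφ (by rw [SubgroupClass.coe_pow, map_pow, hj, OneMemClass.coe_one, map_one]))⟩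
  have hPM : P ≤ M := fun h hh => Subgroup.subset_closure ⟨1, A.one_mem, h, hh, by simp⟩
  have e := hPmax M hMA hMp hPM
  intro g hg h hh
  rw [← e]
  exact Subgroup.subset_closure ⟨g, hg, h, hh, rfl⟩

end Cfsg.Agent.FpfAutomizer
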