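/-
A saturated fusion system at an odd prime with a fixed-point-free automorphism of prime order prime
to the automizers of its centric radical subgroups has a normal Sylow group, given the
Hall-Higman-Shult theorem (owner: helper90; route with helper33, helper89).

Main results: `exists_extend_top`, `automizer_false`, `top_isNormal`.
-/
import Cfsg.Agent.Lib.FpfAutomizer.AutOp
import Cfsg.Agent.Lib.FpfAutomizer.PNormal
import Cfsg.Agent.Lib.FpfAutomizer.Linear
import Cfsg.Agent.Lib.Fusion.Induction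
import Cfsg.Agent.Lib.WeakClosureSL2.Final

set_option autoImplicit false
set_option linter.unusedSectionVars false

namespace Cfsg.Agent.FpfAutomizer

open Cfsg Cfsg.FusionSystem Cfsg.Agent.Fusion

universe u

variable {Ω : Type u} [Group Ω] {S : Subgroup Ω} [Finite S] {F : FusionSystem S} {p : ℕ}
  [Fact p.Prime]

theorem ne_prime_of_fpf (hS : IsPGroup p S) (hne : S ≠ ⊥) {α : MulAut S} {r : ℕ} (hαr : α ^ r = 1)
    (hfpf : ∀ x : S, α x = x → x = 1) : r ≠ p := by
  classical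
  intro hrp
  subst hrp
  have : Fintype S := Fintype.ofFinite S
  have : Nontrivial S := S.nontrivial_iff_ne_bot.2 hne
  obtain ⟨n, hn, hcard⟩ := hS.nontrivial_iff_card.1 ‹_›
  let σ : Equiv.Perm S := (α : S ≃* S).toEquiv
  have hσn : ∀ i : ℕ, ∀ x, (σ ^ i) x = (α ^ i) x := by
    intro i
    induction i with
    | zero => intro x; rfl
    | succ i ih => intro x; rw [pow_succ', pow_succ', Equiv.Perm.mul_apply, ih, MulAut.mul_apply]; rfl
  have hσ : σ ^ r ^ 1 = 1 := by
    ext x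
    rw [pow_one, hσn, hαr]
    rfl
  have hdvd : r ∣ Fintype.card S := by
    rw [← Nat.card_eq_fintype_card, hcard]
    exact dvd_pow_self r hn.ne'
  obtain ⟨b, hb, hb1⟩ := Equiv.Perm.exists_fixed_point_of_prime' hdvd hσ (a := (1 : S)) (map_one α)
  exact hb1 (hfpf b hb)

theorem fpf_autFn {α : MulAut S} (hfpf : ∀ x : S, α x = x → x = 1) {x : Ω} (hx : x ∈ S)
    (e : autFn α x = x) : x = 1 := by
  rw [autFn_apply α hx] at e
  exact congrArg Subtype.val (hfpf ⟨x, hx⟩ (Subtype.ext e))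

/-- An automorphism normalizing the automorphisms induced by `S` on a normal receptive subgroup extends
to `S`. -/
theorem exists_extend_top (hS : IsPGroup p S) (hF : F.IsSaturated p) {R : Subgroup Ω} (hR : R ≤ S)
    (hN : normalizerIn S R = S) {β : MulAut R} (hβ : β ∈ F.autGroup R)
    (hnorm : ∀ k ∈ autInducedBy S R, β * k * β⁻¹ ∈ autInducedBy S R) :
    ∃ δ ∈ F.autGroup S, ∀ x ∈ R, autFn δ x = autFn β x := by
  have hRn : F.IsFullyNormalized R :=
    ⟨hR, fun Q _ => hN.symm ▸ Subgroup.card_le_of_le inf_le_left⟩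
  obtain ⟨f, hf, hfβ⟩ := FusionChain.exists_extension (receptive_of_fullyNormalized hS hF hRn) hβ
    (M := S) hN.ge fun g hg => hnorm _ (range_normConj S R ▸ ⟨⟨g, hN.ge hg⟩, rfl⟩)
  have hf' : IsMap F S f := hf.mono le_sup_right
  obtain ⟨δ, hδ, hδe⟩ := exists_aut_of_isIso
    (⟨hf', eq_of_le_of_card le_rfl hf'.img_le_S (hf'.card_img le_rfl).ge⟩ : IsIso F S S f)
  exact ⟨δ, hδ, fun x hx => by rw [autFn_apply δ (hR hx), hδe, hfβ x hx]⟩

theorem normalizerIn_eq_of_central {T : Subgroup Ω} (hT : T ≤ S ⊓ Subgroup.centralizer (S : Set Ω)) :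
    normalizerIn S T = S := by
  refine le_antisymm inf_le_left fun g hg => centralizerIn_le_normalizerIn S T ?_
  exact mem_centralizerIn.2 ⟨hg, fun x hx => Subgroup.mem_centralizer_iff.1 (hT hx).2 g hg⟩

theorem extend_central (hS : IsPGroup p S) (hF : F.IsSaturated p) {T : Subgroup Ω}
    (hT : T ≤ S ⊓ Subgroup.centralizer (S : Set Ω)) {β : MulAut T} (hβ : β ∈ F.autGroup T) :
    ∃ δ ∈ F.autGroup S, ∀ x ∈ T, autFn δ x = autFn β x := by
  refine exists_extend_top hS hF (hT.trans inf_le_left) (normalizerIn_eq_of_central hT) hβ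
    fun k hk => ?_
  have h1 : k = 1 := by
    obtain ⟨g, hg, hk⟩ := mem_autInducedBy_iff.1 hk
    refine MulEquiv.ext fun x => Subtype.ext ?_
    rw [hk x, Subgroup.mem_centralizer_iff.1 (hT x.2).2 g hg, mul_inv_cancel_right]
    rfl
  rw [h1, mul_one, mul_inv_cancel]
  exact one_mem _

/-- The automizer of a minimal invariant central subgroup has no cyclic subgroup transitive on its
commutator. -/
theorem automizer_false (hH : ShultFor.{u, u}) (hp : p ≠ 2) (hS : IsPGroup p S) (hF : F.IsSaturated p)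
    {r : ℕ} (hr : r.Prime) (hrp : r ≠ p) {α : MulAut S} (hαr : α ^ r = 1)
    (hfpf : ∀ x : S, α x = x → x = 1) (hα : Transports F α)
    (hcr : ¬ r ∣ Nat.card (F.autGroup S)) {T : Subgroup Ω} (hT1 : T ≠ ⊥)
    (hT : T ≤ S ⊓ Subgroup.centralizer (S : Set Ω)) (hTp : ∀ t ∈ T, t ^ p = 1)
    (hTa : ∀ t ∈ T, autFn α t ∈ T)
    (hTmin : ∀ U : Subgroup Ω, U ≤ T → (∀ t ∈ U, autFn α t ∈ U) →
      (∀ δ ∈ F.autGroup S, ∀ t ∈ U, autFn δ t ∈ U) → U = ⊥ ∨ U = T)
    (hTinv : ∀ δ ∈ F.autGroup S, ∀ t ∈ T, autFn δ t ∈ T)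
    {X : Subgroup (MulAut T)} (hXA : X ≤ F.autGroup T) (hX1 : X ≠ ⊥) (hXc : IsCyclic X)
    (htrans : ∀ a b : T, a ∈ Subgroup.closure {y : T | ∃ ψ ∈ X, ∃ t : T, y = ψ t * t⁻¹} →
      b ∈ Subgroup.closure {y : T | ∃ ψ ∈ X, ∃ t : T, y = ψ t * t⁻¹} →
      a ≠ 1 → b ≠ 1 → ∃ ψ ∈ X, ψ a = b) : False := by
  have hTS : T ≤ S := hT.trans inf_le_left
  have := finite_of_le hTS
  have := finite_mulAut (S := S) hTS
  have := finite_mulAut (S := S) (P := S) le_rfl
  letI : CommGroup T :=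
    { (inferInstance : Group T) with
      mul_comm := fun s t =>
        Subtype.ext (Subgroup.mem_centralizer_iff.1 (hT t.2).2 (s : Ω) (hTS s.2)) }
  letI : Module (ZMod p) (Additive T) := AddCommGroup.zmodModule fun t => by
    apply Additive.toMul.injective
    rw [toMul_nsmul]
    exact Subtype.ext (hTp _ (Additive.toMul t).2)
  have : Nontrivial T := T.nontrivial_iff_ne_bot.2 hT1
  have : Nontrivial (Additive T) := Additive.ofMul.nontrivial
  have hx : Module (ZMod p) (Additive T) := inferInstance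
  let ρ : MulAut T →* Module.End (ZMod p) (Additive T) := toEnd T
  set A := F.autGroup T with hA
  set a := resAut α hTS hTa with ha
  have har : a ^ r = 1 := MulEquiv.ext fun t => Subtype.ext (by
    rw [resAut_pow, hαr, autFn_one (hTS t.2)]; rfl)
  have hnA : ∀ g ∈ A, a * g * a⁻¹ ∈ A := fun g hg => exists_conj_aut hα hTS hTa hg
  have hfix : ∀ v, ρ a v = v → v = 0 := by
    intro v hv
    have h1 : a (Additive.toMul v) = Additive.toMul v := congrArg Additive.toMul hv
    apply Additive.toMul.injective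
    exact Subtype.ext (fpf_autFn hfpf (hTS (Additive.toMul v).2) (congrArg Subtype.val h1))
  have hrA : ¬ r ∣ Nat.card A := by
    intro hdvd
    have := Fact.mk hr
    obtain ⟨⟨γ, hγ⟩, hγr⟩ := exists_prime_orderOf_dvd_card' (G := A) r hdvd
    rw [Subgroup.orderOf_mk] at hγr
    obtain ⟨δ, hδ, hδe⟩ := extend_central hS hF hT hγ
    refine hcr ((hγr ▸ orderOf_dvd_of_restrict hTS hδe).trans ?_)
    have h := orderOf_dvd_natCard (⟨δ, hδ⟩ : F.autGroup S)
    rwa [Subgroup.orderOf_mk] at h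
  have hres : ∀ δ ∈ F.autGroup S, ∀ hd : ∀ t ∈ T, autFn δ t ∈ T, resAut δ hTS hd ∈ A := by
    intro δ hδ hd
    refine (mem_autGroup_iff hTS).2 (((isIso_autFn le_rfl hδ).1.mono hTS).congr fun t ht => ?_)
    rw [autFn_apply _ ht, resAut_apply]
  have hirr : ∀ W : Submodule (ZMod p) (Additive T), (∀ g ∈ A, ∀ w ∈ W, ρ g w ∈ W) →
      (∀ w ∈ W, ρ a w ∈ W) → W = ⊥ ∨ W = ⊤ := by
    intro W hWA hWa
    let U : Subgroup Ω := (AddSubgroup.toSubgroup' W.toAddSubgroup).map T.subtype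
    have hUa : ∀ t ∈ U, autFn α t ∈ U := by
      rintro _ ⟨t, ht, rfl⟩
      exact ⟨a t, hWa (Additive.ofMul t) ht, rfl⟩
    have hUA : ∀ δ ∈ F.autGroup S, ∀ t ∈ U, autFn δ t ∈ U := by
      rintro δ hδ _ ⟨t, ht, rfl⟩
      exact ⟨resAut δ hTS (hTinv δ hδ) t,
        hWA _ (hres δ hδ (hTinv δ hδ)) (Additive.ofMul t) ht, rfl⟩
    rcases hTmin U (Subgroup.map_subtype_le _) hUa hUA with h | h
    · refine Or.inl ((Submodule.eq_bot_iff _).2 fun w hw => ?_)
      have hm : ((Additive.toMul w : T) : Ω) ∈ U := ⟨Additive.toMul w, hw, rfl⟩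
      rw [h, Subgroup.mem_bot] at hm
      exact Additive.toMul.injective (Subtype.ext hm)
    · refine Or.inr (eq_top_iff.2 fun w _ => ?_)
      have hm : ((Additive.toMul w : T) : Ω) ∈ U := by rw [h]; exact (Additive.toMul w : T).2
      obtain ⟨t, ht, e⟩ := hm
      have e' : t = Additive.toMul w := Subtype.ext e
      rw [e'] at ht
      exact ht
  have hcases := shult_cases hH hp ρ (toEnd_injective T) A a hnA hr har hfix hrA hirr
  obtain ⟨⟨x, hxX⟩, hgen⟩ := hXc.exists_generator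
  have hx1 : x ≠ 1 := by
    intro e
    refine hX1 ((Subgroup.eq_bot_iff_forall X).2 fun ψ hψ => ?_)
    obtain ⟨i, hi⟩ := hgen ⟨ψ, hψ⟩
    have := congrArg Subtype.val hi
    simp only [SubgroupClass.coe_zpow, e, one_zpow] at this
    exact this.symm
  refine linear_false ρ (toEnd_injective T) hp hr har hfix hrp hrA hcases (hXA hxX) hx1
    fun u hu v hv hu0 hv0 => ?_
  have hmem : ∀ u ∈ cspace ρ x,
      Additive.toMul u ∈ Subgroup.closure {y : T | ∃ ψ ∈ X, ∃ t : T, y = ψ t * t⁻¹} := by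
    rintro _ ⟨w, rfl⟩
    refine Subgroup.subset_closure ⟨x, hxX, Additive.toMul w, ?_⟩
    show x (Additive.toMul w) / Additive.toMul w = _
    rw [div_eq_mul_inv]
  obtain ⟨ψ, hψ, e⟩ := htrans _ _ (hmem u hu) (hmem v hv)
    (fun h => hu0 (Additive.toMul.injective h)) (fun h => hv0 (Additive.toMul.injective h))
  obtain ⟨i, hi⟩ := mem_powers_iff_mem_zpowers.2 (hgen ⟨ψ, hψ⟩)
  have hi' : x ^ i = ψ := congrArg Subtype.val hi
  exact ⟨i, hi' ▸ congrArg Additive.ofMul e⟩

/-- The main induction. -/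
theorem top_isNormal (hH : ShultFor.{u, u}) (hp : p ≠ 2) {r : ℕ} (hr : r.Prime) :
    ∀ (n : ℕ) {Ω : Type u} [Group Ω] (S : Subgroup Ω) [Finite S], Nat.card S = n → IsPGroup p S →
      ∀ F : FusionSystem S, F.IsSaturated p → ∀ α : MulAut S, α ^ r = 1 →
        (∀ x : S, α x = x → x = 1) → Transports F α →
        (∀ R : Subgroup Ω, F.IsCentric R → F.IsRadical p R → ¬ r ∣ Nat.card (F.autGroup R)) →
        F.IsNormal S := by
  intro n
  induction n using Nat.strong_induction_on with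
  | _ n ih =>
  intro Ω _ S _ hn hS F hF α hαr hfpf hα hcr
  by_cases hne : S = ⊥
  · exact FusionChain.isNormal_top_of_radicals hS hF fun R _ hc _ =>
      le_antisymm hc.1 (hne ▸ bot_le)
  have hrp : r ≠ p := ne_prime_of_fpf hS hne hαr hfpf
  have hnr : ∀ {P : Subgroup Ω}, F.IsCentric P → ¬ r ∣ Nat.card (F.autGroup P) :=
    fun hP => not_dvd_card_autGroup hS hF hr hcr hP
  have := finite_mulAut (S := S) (P := S) le_rfl
  have hαS : ∀ {x : Ω}, x ∈ S → autFn α x ∈ S := fun hx => autFn_mem α hx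
  -- the Thompson subgroup
  set J := thompsonSubgroupAOf S with hJdef
  have hJS : J ≤ S := PLocal.thompsonSubgroupAOf_le S
  have hJN : normalizerIn S J = S := inf_eq_left.2
    (Subgroup.le_normalizer.trans (PLocal.normalizer_le_normalizer_thompsonSubgroupAOf S))
  have := finite_of_le hJS
  have := finite_mulAut (S := S) hJS
  have hJa : ∀ x ∈ J, autFn α x ∈ J := fun x hx => thompson_mem α hx
  set aJ := resAut α hJS hJa with haJ
  have hPnorm : ∀ g ∈ F.autGroup J, ∀ h ∈ autInducedBy S J, g * h * g⁻¹ ∈ autInducedBy S J := by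
    have hJn : F.IsFullyNormalized J :=
      ⟨hJS, fun Q _ => hJN.symm ▸ Subgroup.card_le_of_le inf_le_left⟩
    have hsyl := (isFullyAutomized_iff.1 (fullyAutomized_of_fullyNormalized hS hF hJn)).2
    have hconj : ∀ g : Ω, g ∈ S → ∀ k : MulAut J, (∀ x : J, ((k x : J) : Ω) = g * x * g⁻¹) →
        ∀ x : J, (((aJ * k * aJ⁻¹) x : J) : Ω) = autFn α g * x * (autFn α g)⁻¹ := by
      intro g hg k hk x
      obtain ⟨y, rfl⟩ := aJ.surjective x
      rw [MulAut.mul_apply, MulAut.mul_apply, MulAut.inv_apply_self, resAut_apply, hk y,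
        resAut_apply, autFn_map_mul α (S.mul_mem hg (hJS y.2)) (S.inv_mem hg),
        autFn_map_mul α hg (hJS y.2), autFn_map_inv α hg]
    refine maximal_normal (p := p) (Γ := MulAut J) (a := aJ) hH hp hr hrp ?_
      (fun g hg => exists_conj_aut hα hJS hJa hg) (hnr thompson_centric) hsyl.1 hsyl.2.1 ?_ ?_
      (fun Q h1 h2 h3 => hsyl.2.2 Q h3 h1 h2) J (hS.to_le hJS) (MonoidHom.id _) Function.injective_id ?_
    · exact MulEquiv.ext fun t => Subtype.ext (by
        rw [resAut_pow, hαr, autFn_one (hJS t.2)]; rfl)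
    · intro k hk
      obtain ⟨g, hg, hgk⟩ := mem_autInducedBy_iff.1 hk
      exact mem_autInducedBy_iff.2 ⟨autFn α g, hαS hg, hconj g hg k hgk⟩
    · intro k hk hfixk
      obtain ⟨s, hs, hsk⟩ := mem_autInducedBy_iff.1 hk
      set C := centralizerIn S J with hC
      have hCS : C ≤ S := inf_le_left
      have := finite_of_le hCS
      have hCa : ∀ c ∈ C, autFn α c ∈ C := by
        intro c hc
        refine mem_centralizerIn.2 ⟨hαS (hCS hc), fun x hx => ?_⟩
        obtain ⟨y, hy⟩ := aJ.surjective ⟨x, hx⟩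
        have e : autFn α y = x := congrArg Subtype.val hy
        rw [← e, ← autFn_map_mul α (hCS hc) (hJS y.2), ← autFn_map_mul α (hJS y.2) (hCS hc),
          (mem_centralizerIn.1 hc).2 y y.2]
      have hd : s⁻¹ * autFn α s ∈ C := by
        refine mem_centralizerIn_of_conj (S.mul_mem (S.inv_mem hs) (hαS hs)) fun x hx => ?_
        have h1 := hconj s hs k hsk ⟨x, hx⟩
        rw [hfixk, hsk] at h1
        calc s⁻¹ * autFn α s * x * (s⁻¹ * autFn α s)⁻¹
            = s⁻¹ * (autFn α s * x * (autFn α s)⁻¹) * s := by group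
          _ = x := by rw [← h1]; group
      have hcoset : ∀ c ∈ C, s⁻¹ * autFn α (s * c) ∈ C := fun c hc => by
        rw [autFn_map_mul α hs (hCS hc), ← mul_assoc]
        exact C.mul_mem hd (hCa c hc)
      let f : C → C := fun c => ⟨s⁻¹ * autFn α (s * c), hcoset c c.2⟩
      have hfit : ∀ i (c : C), ((f^[i] c : C) : Ω) = s⁻¹ * autFn (α ^ i) (s * c) := by
        intro i
        induction i with
        | zero => intro c; rw [pow_zero, autFn_one (S.mul_mem hs (hCS c.2))]; simp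
        | succ i ih =>
          intro c
          rw [Function.iterate_succ_apply, ih, pow_succ, autFn_comp _ α (S.mul_mem hs (hCS c.2))]
          show s⁻¹ * autFn (α ^ i) (s * (s⁻¹ * autFn α (s * c))) = _
          rw [mul_inv_cancel_left]
      have hCr : ¬ r ∣ Nat.card C := fun h => by
        obtain ⟨i, hi⟩ := IsPGroup.iff_card.1 (hS.to_le hCS)
        exact hrp ((Nat.prime_dvd_prime_iff_eq hr Fact.out).1 (hr.dvd_of_dvd_pow (hi ▸ h)))
      obtain ⟨c, hc⟩ := exists_fixed hr hCr f (by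
        funext c; apply Subtype.ext; rw [hfit, hαr, autFn_one (S.mul_mem hs (hCS c.2))]; simp)
      have h1 : s * (c : Ω) = 1 := fpf_autFn hfpf (S.mul_mem hs (hCS c.2))
        (inv_mul_eq_iff_eq_mul.1 (congrArg Subtype.val hc))
      have hsC : s ∈ C := eq_inv_of_mul_eq_one_left h1 ▸ C.inv_mem c.2
      exact MulEquiv.ext fun x => Subtype.ext (by rw [hsk, centralizerIn_conj hsC x.2]; rfl)
    · intro x hx
      exact Subtype.ext (fpf_autFn hfpf (hJS x.2) (congrArg Subtype.val hx))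
  -- the minimal invariant central subgroup
  have : Nontrivial S := S.nontrivial_iff_ne_bot.2 hne
  obtain ⟨T₀, hT₀, hT₀c, hT₀p, hT₀inv, hT₀min⟩ := exists_minimal_elementary hS
    (MonoidHom.id (MulAut S)) ((F.autGroup S : Set (MulAut S)) ∪ {α})
  set T := T₀.map S.subtype with hTdef
  have hT1 : T ≠ ⊥ := fun h =>
    hT₀ ((Subgroup.map_eq_bot_iff_of_injective _ S.subtype_injective).1 h)
  have hTS : T ≤ S := Subgroup.map_subtype_le _
  have hT : T ≤ S ⊓ Subgroup.centralizer (S : Set Ω) := by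
    rintro _ ⟨t, ht, rfl⟩
    exact ⟨t.2, fun s hs =>
      congrArg Subtype.val (Subgroup.mem_center_iff.1 (hT₀c ht) ⟨s, hs⟩)⟩
  have hTp : ∀ t ∈ T, t ^ p = 1 := by
    rintro _ ⟨t, ht, rfl⟩
    exact congrArg Subtype.val (hT₀p t ht)
  have hTinv' : ∀ δ ∈ (F.autGroup S : Set (MulAut S)) ∪ {α}, ∀ t ∈ T, autFn δ t ∈ T := by
    rintro δ hδ _ ⟨t, ht, rfl⟩
    exact ⟨δ t, hT₀inv δ hδ t ht, (autFn_apply δ t.2).symm⟩
  have hTa : ∀ t ∈ T, autFn α t ∈ T := hTinv' α (Or.inr rfl)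
  have hTA : ∀ δ ∈ F.autGroup S, ∀ t ∈ T, autFn δ t ∈ T := fun δ hδ => hTinv' δ (Or.inl hδ)
  have hTmin : ∀ U : Subgroup Ω, U ≤ T → (∀ t ∈ U, autFn α t ∈ U) →
      (∀ δ ∈ F.autGroup S, ∀ t ∈ U, autFn δ t ∈ U) → U = ⊥ ∨ U = T := by
    intro U hU hUa hUA
    have hUS : U ≤ S := hU.trans hTS
    have h := hT₀min (U.subgroupOf S) (fun u hu => by
        obtain ⟨t, ht, e⟩ := hU hu
        exact (Subtype.ext e : t = u) ▸ ht)
      (fun δ hδ u hu => by
        show ((δ u : S) : Ω) ∈ U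
        rw [← autFn_apply δ u.2]
        rcases hδ with hδ | hδ
        · exact hUA δ hδ u hu
        · rw [Set.mem_singleton_iff.1 hδ]; exact hUa u hu)
    rcases h with h | h
    · left
      rw [← Subgroup.map_subgroupOf_eq_of_le hUS, h, Subgroup.map_bot]
    · right
      rw [← Subgroup.map_subgroupOf_eq_of_le hUS, h]
  have hTJ : T ≤ J := fun t ht => centralizerIn_thompsonA_le
    (mem_centralizerIn.2 ⟨hTS ht, fun x hx =>
      (Subgroup.mem_centralizer_iff.1 (hT ht).2 x (hJS hx)).symm⟩)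
  have hNT : normalizerIn S T = S := normalizerIn_eq_of_central hT
  -- the normalizer of `J` fixes `T`
  have hJT : ∀ NJ : FusionSystem (normalizerIn S J), F.IsNormalizerSystem J NJ →
      ∀ NT : FusionSystem (normalizerIn S T), F.IsNormalizerSystem T NT → NJ.IsSubsystemOf NT := by
    intro NJ hNJ NT hNT' P φ hφ
    obtain ⟨hφF, hP, hφN, ψ, hψ, hψP, hψJ⟩ := (hNJ P).le hφ
    refine (hNT' P).ge ⟨hφF, fun x hx => hNT.ge (hP hx).1, fun x => hNT.ge (hφN x).1, ?_⟩
    have hf : IsMap F (P ⊔ J) (toFn ψ) := isMap_toFn hψ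
    have hJJ : ∀ x ∈ J, toFn ψ x ∈ J := fun x hx => by
      rw [toFn_apply ψ (Subgroup.mem_sup_right hx)]
      exact hψJ.le ⟨⟨x, Subgroup.mem_sup_right hx⟩, hx, rfl⟩
    have hfJ : IsMap F J (toFn ψ) := hf.mono le_sup_right
    obtain ⟨β, hβ, hβe⟩ := exists_aut_of_isIso
      (⟨hfJ, eq_of_le_of_card hJS (hfJ.img_le le_rfl hJJ) (hfJ.card_img le_rfl).ge⟩ :
        IsIso F J J (toFn ψ))
    obtain ⟨δ, hδ, hδe⟩ := exists_extend_top hS hF hJS hJN hβ (hPnorm β hβ)
    have hTT : ∀ t ∈ T, toFn ψ t ∈ T := fun t ht => by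
      rw [← hβe ⟨t, hTJ ht⟩, ← autFn_apply β (hTJ ht), ← hδe t (hTJ ht)]
      exact hTA δ hδ t ht
    obtain ⟨ψ', hψ', hψ'e⟩ := hf.mono (sup_le le_sup_left (hTJ.trans le_sup_right) : P ⊔ T ≤ P ⊔ J)
    refine ⟨ψ', hψ', fun x => ?_, eq_of_le_of_card hTS ?_ ?_⟩
    · rw [← hψP x, ← toFn_coe ψ]
      exact hψ'e _ _
    · rintro _ ⟨x, hx, rfl⟩
      exact (hψ'e x x.2).symm ▸ hTT _ hx
    · rw [Subgroup.card_map_of_injective (F.injective_of_mem hψ'),
        Nat.card_congr (Subgroup.subgroupOfEquivOfLe (le_sup_right : T ≤ P ⊔ T)).toEquiv]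
  rcases WeakClosureSL2.exists_transitive hS hF hp hT hJT with hwc | ⟨X, hXA, hX1, hXc, -, htr⟩
  swap
  · exact (automizer_false hH hp hS hF hr hrp hαr hfpf hα (hnr centric_top) hT1 hT hTp hTa hTmin hTA
      hXA hX1 hXc htr).elim
  -- `T` is weakly closed, hence normal
  have hTR : ∀ R : Subgroup Ω, F.IsCentric R → T ≤ R := fun R hc t ht =>
    FusionChain.centralizerIn_le_of_centric hc (mem_centralizerIn.2 ⟨hTS ht, fun x hx =>
      (Subgroup.mem_centralizer_iff.1 (hT ht).2 x (hc.1 hx)).symm⟩)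
  have hTn : F.IsNormal T := by
    refine FusionChain.isNormal_of_radicals hS hF hTS fun R _ hc _ => ⟨hTR R hc, fun β hβ t ht => ?_⟩
    obtain ⟨φ, hφ, e⟩ := (isIso_autFn hc.1 hβ).1.mono (hTR R hc)
    rw [← e t ht]
    exact (hwc.2 φ hφ).le ⟨⟨t, ht⟩, rfl⟩
  have hTsc := stronglyClosed_of_normal hTn
  have : (T.subgroupOf S).Normal := ⟨fun t ht g => conj_mem_of_stronglyClosed hTsc g.2 ht⟩
  have D := quotientData hTsc (F := F)
  set θ := QuotientGroup.mk' (T.subgroupOf S) with hθ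
  obtain ⟨E, hE⟩ := D.exists_factorSystem
  have := D.finite_S'
  have := finite_of_le hTS
  -- the induced automorphism
  have hmapα : (T.subgroupOf S).map (α : S ≃* S).toMonoidHom = T.subgroupOf S := by
    refine Subgroup.eq_of_le_of_card_ge ?_
      (Subgroup.card_map_of_injective (MulEquiv.injective α)).ge
    rintro _ ⟨t, ht, rfl⟩
    show ((α t : S) : Ω) ∈ T
    rw [← autFn_apply α t.2]
    exact hTa _ ht
  let αq : MulAut (S ⧸ T.subgroupOf S) := QuotientGroup.congr _ _ α hmapα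
  let α' : MulAut (⊤ : Subgroup (S ⧸ T.subgroupOf S)) :=
    (Subgroup.topEquiv.trans αq).trans Subgroup.topEquiv.symm
  have hkey : ∀ x ∈ S, autFn α' (thF θ x) = thF θ (autFn α x) := fun x hx => by
    rw [autFn_apply α' (Subgroup.mem_top _), thF_apply θ hx]
    show αq (θ ⟨x, hx⟩) = _
    rw [thF_apply θ (hαS hx)]
    show ((α ⟨x, hx⟩ : S) : S ⧸ T.subgroupOf S) = _
    exact congrArg QuotientGroup.mk (Subtype.ext (autFn_apply α hx).symm)
  have hkeyn : ∀ i : ℕ, ∀ x ∈ S, autFn (α' ^ i) (thF θ x) = thF θ (autFn (α ^ i) x) := by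
    intro i
    induction i with
    | zero => intro x hx; rw [pow_zero, pow_zero, autFn_one (Subgroup.mem_top _), autFn_one hx]
    | succ i ih =>
      intro x hx
      rw [pow_succ, pow_succ, autFn_comp _ α' (Subgroup.mem_top _), autFn_comp _ α hx, hkey x hx,
        ih _ (hαS hx)]
  have hα'r : α' ^ r = 1 := MulEquiv.ext fun y => Subtype.ext (by
    obtain ⟨x, hx, e⟩ := D.exists_eq y.2
    rw [← autFn_apply _ y.2, ← e, hkeyn r x hx, hαr, autFn_one hx, e]
    rfl)
  have hTr : ¬ r ∣ Nat.card T := fun h => by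
    obtain ⟨i, hi⟩ := IsPGroup.iff_card.1 (hS.to_le hTS)
    exact hrp ((Nat.prime_dvd_prime_iff_eq hr Fact.out).1 (hr.dvd_of_dvd_pow (hi ▸ h)))
  have hfpf' : ∀ y, α' y = y → y = 1 := by
    intro y hy
    obtain ⟨x, hx, e⟩ := D.exists_eq y.2
    have h1 : thF θ (autFn α x) = thF θ x := by
      rw [← hkey x hx, e, autFn_apply α' y.2, hy]
    have hxT : x⁻¹ * autFn α x ∈ T := (D.thF_eq_iff hx (hαS hx)).1 h1.symm
    have hcoset : ∀ t ∈ T, x⁻¹ * autFn α (x * t) ∈ T := fun t ht => by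
      rw [autFn_map_mul α hx (hTS ht), ← mul_assoc]
      exact T.mul_mem hxT (hTa t ht)
    let f : T → T := fun t => ⟨x⁻¹ * autFn α (x * t), hcoset t t.2⟩
    have hfit : ∀ i (t : T), ((f^[i] t : T) : Ω) = x⁻¹ * autFn (α ^ i) (x * t) := by
      intro i
      induction i with
      | zero => intro t; rw [pow_zero, autFn_one (S.mul_mem hx (hTS t.2))]; simp
      | succ i ih =>
        intro t
        rw [Function.iterate_succ_apply, ih, pow_succ, autFn_comp _ α (S.mul_mem hx (hTS t.2))]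
        show x⁻¹ * autFn (α ^ i) (x * (x⁻¹ * autFn α (x * t))) = _
        rw [mul_inv_cancel_left]
    obtain ⟨t, ht⟩ := exists_fixed hr hTr f (by
      funext t; apply Subtype.ext; rw [hfit, hαr, autFn_one (S.mul_mem hx (hTS t.2))]; simp)
    have h2 : x * (t : Ω) = 1 := fpf_autFn hfpf (S.mul_mem hx (hTS t.2))
      (inv_mul_eq_iff_eq_mul.1 (congrArg Subtype.val ht))
    refine Subtype.ext ?_
    rw [← e, thF_apply θ hx]
    exact (D.ker_iff ⟨x, hx⟩).2 (eq_inv_of_mul_eq_one_left h2 ▸ T.inv_mem t.2)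
  have hα' : Transports E α' := by
    intro P' f' hf'
    obtain ⟨hP', f, hf, hff⟩ := (QData.isMap_factor_iff hE).1 hf'
    obtain ⟨g, hg, hge⟩ := hα _ f hf
    set P := preimageAlong θ P' with hPdef
    have hTimg : T ≤ img (autFn α) P := fun t ht => by
      obtain ⟨u, hu⟩ := (resAut α hTS hTa).surjective ⟨t, ht⟩
      exact Subgroup.subset_closure ⟨u, D.le_preimage P' u.2, congrArg Subtype.val hu⟩
    obtain ⟨g', hg', hg'e⟩ := D.isMap_image hE hg hTimg
    have hmemP : ∀ {x : Ω}, x ∈ P → autFn α x ∈ img (autFn α) P :=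
      fun hx => Subgroup.subset_closure ⟨_, hx, rfl⟩
    have hle : img (autFn α') P' ≤ imageAlong θ (img (autFn α) P) := by
      rw [img, Subgroup.closure_le]
      rintro _ ⟨y, hy, rfl⟩
      obtain ⟨x, hx, rfl⟩ := D.exists_eq (hP' hy)
      exact mem_imageAlong.2 ⟨autFn α x, hmemP (mem_preimageAlong.2 ⟨hx, hy⟩), hαS hx,
        (hkey x hx).symm⟩
    refine ⟨g', hg'.mono hle, fun y hy => ?_⟩
    obtain ⟨x, hx, rfl⟩ := D.exists_eq (hP' hy)
    have hxP : x ∈ P := mem_preimageAlong.2 ⟨hx, hy⟩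
    rw [hkey x hx, hg'e _ (hmemP hxP), hge x hxP, hff x hxP, hkey _ (hf.mem hxP)]
  have hcr' : ∀ R' : Subgroup (S ⧸ T.subgroupOf S), E.IsCentric R' → E.IsRadical p R' →
      ¬ r ∣ Nat.card (E.autGroup R') := by
    intro R' hc' _ hdvd
    set P := preimageAlong θ R' with hPdef
    have hPS : P ≤ S := preimageAlong_le θ R'
    have hPc : F.IsCentric P := by
      refine ⟨hPS, fun Q hQ => ?_⟩
      obtain ⟨f, hf⟩ := isConj_iff.1 hQ
      have hTQ : T ≤ Q := by
        rw [← D.map_S₀_surj hf.1 (D.le_preimage _), ← hf.2]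
        exact Subgroup.closure_mono (Set.image_mono (D.le_preimage _))
      have hQ' : preimageAlong θ (imageAlong θ Q) = Q := by
        rw [D.preimage_image hf.le_right, sup_eq_left.2 hTQ]
      obtain ⟨f', hf', e⟩ := D.isMap_image hE hf.1 (D.le_preimage _)
      rw [D.image_preimage hc'.1] at hf'
      have hiso : IsIso E R' (imageAlong θ Q) f' := by
        refine ⟨hf', IsIso.img_eq_of hf' le_rfl (fun y hy => ?_) fun y hy => ?_⟩
        · obtain ⟨x, hx, rfl⟩ := D.exists_eq (hc'.1 hy)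
          have hxP : x ∈ P := mem_preimageAlong.2 ⟨hx, hy⟩
          rw [e x hxP]
          exact mem_imageAlong.2 ⟨f x, hf.mem hxP, hf.1.mem hxP, rfl⟩
        · obtain ⟨z, hz, hzS, rfl⟩ := mem_imageAlong.1 hy
          obtain ⟨x, hx, rfl⟩ := hf.exists_eq hz
          exact ⟨thF θ x, (mem_preimageAlong.1 hx).2, e x hx⟩
      intro c hc
      rw [← hQ']
      refine mem_preimageAlong.2 ⟨hc.1, hc'.2 _ (isConj_iff.2 ⟨f', hiso⟩)
        (mem_centralizerIn.2 ⟨D.thF_mem hc.1, fun y hy => ?_⟩)⟩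
      obtain ⟨z, hz, hzS, rfl⟩ := mem_imageAlong.1 hy
      rw [← thF_mul θ hc.1 hzS, ← thF_mul θ hzS hc.1, (mem_centralizerIn.1 hc).2 z hz]
    have := Fact.mk hr
    have := finite_mulAut (S := (⊤ : Subgroup (S ⧸ T.subgroupOf S))) hc'.1
    obtain ⟨⟨γ, hγ⟩, hγr⟩ := exists_prime_orderOf_dvd_card' (G := E.autGroup R') r hdvd
    rw [Subgroup.orderOf_mk] at hγr
    obtain ⟨f, hf, hfe⟩ := D.exists_lift_iso hE (isIso_autFn hc'.1 hγ)
    obtain ⟨δ, hδ, hδe⟩ := exists_aut_of_isIso hf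
    have hkd : ∀ i : ℕ, ∀ x ∈ P, autFn (γ ^ i) (thF θ x) = thF θ (autFn (δ ^ i) x) := by
      intro i
      induction i with
      | zero => intro x hx; rw [pow_zero, pow_zero, autFn_one (mem_preimageAlong.1 hx).2, autFn_one hx]
      | succ i ih =>
        intro x hx
        rw [pow_succ, pow_succ, autFn_comp _ γ (mem_preimageAlong.1 hx).2, autFn_comp _ δ hx,
          hfe x hx, autFn_apply δ hx, hδe ⟨x, hx⟩, ih _ (hf.mem hx)]
    have hγδ : γ ^ orderOf δ = 1 := MulEquiv.ext fun y => Subtype.ext (by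
      obtain ⟨x, hx, e⟩ := D.exists_eq (hc'.1 y.2)
      have hxP : x ∈ P := mem_preimageAlong.2 ⟨hx, e.symm ▸ y.2⟩
      rw [← autFn_apply _ y.2, ← e, hkd _ x hxP, pow_orderOf_eq_one, autFn_one hxP, e]
      rfl)
    have := finite_mulAut (S := S) hPS
    refine hnr hPc ((hγr ▸ orderOf_dvd_of_pow_eq_one hγδ).trans ?_)
    have h := orderOf_dvd_natCard (⟨δ, hδ⟩ : F.autGroup P)
    rwa [Subgroup.orderOf_mk] at h
  have hSn := ih _ (hn ▸ D.card_lt hT1) (⊤ : Subgroup (S ⧸ T.subgroupOf S)) rfl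
    (D.isPGroup_S' hS) E (D.isSaturated_factor hS hF hE) α' hα'r hfpf' hα' hcr'
  -- lift normality
  refine FusionChain.isNormal_top_of_radicals hS hF fun R _ hc hrad => ?_
  have hRS := hc.1
  have := finite_mulAut (S := S) hRS
  have hTRle := hTR R hc
  have hfixT : ∀ t ∈ T, ∀ s ∈ S, s * t * s⁻¹ = t := fun t ht s hs => by
    rw [Subgroup.mem_centralizer_iff.1 (hT ht).2 s hs, mul_inv_cancel_right]
  let L : Subgroup (MulAut R) :=
    { carrier := {a | a ∈ F.autGroup R ∧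
        (∃ s ∈ S, ∀ x : R, thF θ (a x : R) = thF θ s * thF θ x * (thF θ s)⁻¹) ∧
        ∀ x : R, (x : Ω) ∈ T → ((a x : R) : Ω) = x}
      one_mem' := ⟨one_mem _, ⟨1, one_mem _, fun x => by
          rw [thF_apply θ (one_mem S), show (⟨1, one_mem S⟩ : S) = 1 from rfl, map_one θ]
          simp⟩,
        fun x _ => rfl⟩
      mul_mem' := by
        rintro a b ⟨ha, ⟨s, hs, ha1⟩, ha2⟩ ⟨hb, ⟨t, ht, hb1⟩, hb2⟩
        refine ⟨mul_mem ha hb, ⟨s * t, mul_mem hs ht, fun x => ?_⟩, fun x hx => ?_⟩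
        · rw [MulAut.mul_apply, ha1, hb1, thF_mul θ hs ht]
          group
        · rw [MulAut.mul_apply, ha2 _ ((hb2 x hx).symm ▸ hx), hb2 x hx]
      inv_mem' := by
        rintro a ⟨ha, ⟨s, hs, ha1⟩, ha2⟩
        refine ⟨inv_mem ha, ⟨s⁻¹, inv_mem hs, fun x => ?_⟩, fun x hx => ?_⟩
        · have h := ha1 (a⁻¹ x)
          rw [MulAut.apply_inv_self] at h
          rw [thF_inv θ hs, h]
          group
        · have h : a⁻¹ x = x := by
            apply a.injective
            rw [MulAut.apply_inv_self]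
            exact Subtype.ext (ha2 x hx).symm
          rw [h] }
  have hLp : IsPGroup p L := by
    rintro ⟨a, ha, ⟨s, hs, ha1⟩, ha2⟩
    obtain ⟨k, hk⟩ := hS ⟨s, hs⟩
    have hpow : ∀ (i : ℕ) (x : R),
        thF θ ((a ^ i) x : R) = thF θ s ^ i * thF θ x * (thF θ s ^ i)⁻¹ := by
      intro i
      induction i with
      | zero => intro x; simp
      | succ i ih => intro x; rw [pow_succ', MulAut.mul_apply, ha1, ih, pow_succ']; group
    have hs1 : thF θ s ^ p ^ k = 1 := by rw [thF_apply θ hs, ← map_pow, hk, map_one]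
    refine ⟨k + 1, Subtype.ext (MulEquiv.ext fun x => Subtype.ext ?_)⟩
    show (((a ^ p ^ (k + 1)) x : R) : Ω) = x
    set e := a ^ p ^ k with he
    have hd : (x : Ω)⁻¹ * (e x : R) ∈ T := (D.thF_eq_iff (hRS x.2) (hRS (e x).2)).1 (by
      rw [he, hpow, hs1]; group)
    have hefix : ∀ u : R, (u : Ω) ∈ T → e u = u := by
      intro u hu
      have : ∀ i : ℕ, (a ^ i) u = u := fun i => by
        induction i with
        | zero => simp
        | succ i ih => rw [pow_succ', MulAut.mul_apply, ih]; exact Subtype.ext (ha2 u hu)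
      exact this _
    have hiter : ∀ i : ℕ, (e ^ i) x = x * (x⁻¹ * e x) ^ i := by
      intro i
      induction i with
      | zero => simp
      | succ i ih =>
        rw [pow_succ', MulAut.mul_apply, ih, map_mul, map_pow, hefix (x⁻¹ * e x) hd, pow_succ',
          ← mul_assoc, mul_inv_cancel_left]
    rw [pow_succ, pow_mul, ← he, hiter]
    push_cast
    rw [hTp _ hd, mul_one]
  have hLn : ∀ β ∈ F.autGroup R, ∀ k ∈ L, β * k * β⁻¹ ∈ L := by
    rintro β hβ k ⟨hk, ⟨s, hs, hk1⟩, hk2⟩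
    refine ⟨mul_mem (mul_mem hβ hk) (inv_mem hβ), ?_, fun x hx => ?_⟩
    · obtain ⟨f', hf', hf'e⟩ := D.isMap_image hE (isIso_autFn hRS hβ).1 hTRle
      obtain ⟨g, hg, hgf, -⟩ := (FusionChain.isNormal_iff.1 hSn).2 _ f' hf'
      obtain ⟨s₁, hs₁, hs₁e⟩ := D.exists_eq (hg.mem (Subgroup.mem_sup_right (D.thF_mem hs)))
      refine ⟨s₁, hs₁, fun x => ?_⟩
      obtain ⟨y, rfl⟩ := β.surjective x
      rw [MulAut.mul_apply, MulAut.mul_apply, MulAut.inv_apply_self]
      have hg1 : ∀ z : R, g (thF θ z) = thF θ (β z : R) := fun z => by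
        have hz : thF θ z ∈ imageAlong θ R := mem_imageAlong.2 ⟨z, z.2, hRS z.2, rfl⟩
        rw [hgf _ hz, hf'e z z.2, autFn_apply β z.2]
      rw [← hg1, ← hg1, hk1, hs₁e]
      exact hg.map_conj (Subgroup.mem_sup_right (D.thF_mem hs))
        (Subgroup.mem_sup_left (mem_imageAlong.2 ⟨y, y.2, hRS y.2, rfl⟩))
    · have hy : ((β⁻¹ x : R) : Ω) ∈ T := by
        have := autFn_mem_of_stronglyClosed hTsc hRS (inv_mem hβ) x.2 hx
        rwa [autFn_apply _ x.2] at this
      rw [MulAut.mul_apply, MulAut.mul_apply, show k (β⁻¹ x) = β⁻¹ x from Subtype.ext (hk2 _ hy),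
        MulAut.apply_inv_self]
  have hLcore := FusionChain.le_pCoreAut hLp (fun a ha => ha.1) hLn
  refine eq_of_le_of_not_lt hRS fun hlt => ?_
  obtain ⟨q, hq, hqR⟩ := SetLike.exists_of_lt (lt_normalizerIn hS le_rfl hlt)
  refine hqR (FusionChain.mem_of_mem_pCoreAut hc hrad hq.1 (α := normConj S R ⟨q, hq⟩)
    (hLcore ⟨autInducedBy_le_autGroup F le_rfl hRS (range_normConj S R ▸ ⟨_, rfl⟩),
      ⟨q, hq.1, fun x => ?_⟩, fun x hx => hfixT _ hx q hq.1⟩) fun x => rfl)
  exact thF_conj θ hq.1 (hRS x.2)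

/-- The hypothesis follows from the statement of the Hall-Higman-Shult theorem. -/
theorem shultFor_of_statement
    (h : ∀ {X : Type u} [Group X] [Finite X] (G R : Subgroup X) [G.Normal], G ⊔ R = ⊤ → ∀ (r : ℕ),
      r.Prime → Nat.card R = r → ¬ r ∣ Nat.card G → ∀ {k : Type} [Field k] {p : ℕ} [Fact p.Prime]
      [CharP k p] {V : Type u} [AddCommGroup V] [Module k V] [FiniteDimensional k V] [Nontrivial V]
      (ρ : Representation k X V), Function.Injective ρ →
      (∀ W : Submodule k V, (∀ x : X, W.map (ρ x) ≤ W) → W = ⊥ ∨ W = ⊤) →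
      (∀ v : V, (∀ x ∈ R, ρ x v = v) → v = 0) →
      ⁅G, R⁆ = ⊥ ∨ ((∃ m : ℕ, r = 2 ^ m + 1) ∧ ¬ IsMulCommutative ↥⁅G, R⁆ ∧
        Cfsg.IsSpecial 2 ↥⁅G, R⁆)) : ShultFor.{u, u} := by
  intro X _ _ G R _ htop r hr hR hG p _ V _ _ _ _ ρ hρ hirr hfix
  rcases h G R htop r hr hR hG ρ hρ hirr hfix with h1 | ⟨h1, -, h2⟩
  · exact Or.inl h1
  · exact Or.inr ⟨h1, h2⟩

/-- The fusion theorem as used. -/
theorem isNormal_top (hH : ShultFor.{u, u}) (hS : IsPGroup p S) (hF : F.IsSaturated p) (hp : p ≠ 2)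
    (α : MulAut S) (hfix : ∀ x : S, α x = x → x = 1)
    (hmor : F.IsMorphism F (S.subtype.comp α.toMonoidHom)) {r : ℕ} (hr : r.Prime)
    (hord : orderOf α = r)
    (hcr : ∀ R : Subgroup Ω, F.IsCentric R → F.IsRadical p R → ¬ r ∣ Nat.card (F.autGroup R)) :
    F.IsNormal S :=
  top_isNormal hH hp hr _ S rfl hS F hF α (hord ▸ pow_orderOf_eq_one α) hfix
    (transports_of_isMorphism F α hmor) hcr

end Cfsg.Agent.FpfAutomizer
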